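import Groth.Agent.Lib.RosTrace22.SumSq
import Groth.Agent.Lib.AgPol22.Hom
import Groth.Agent.Lib.AgPol22.Symm
import Groth.Agent.Lib.RR22.Mumford
import Groth.Agent.Lib.Poincare22.Global
import Groth.Agent.S7790

/-!
# Endomorphisms attached to classes through a polarisation
-/

universe u

open CategoryTheory Limits MonoidalCategory CartesianMonoidalCategory AlgebraicGeometry TopologicalSpace
open scoped MonObj GrpObj

set_option linter.style.haveILetI false
set_option linter.unusedSectionVars false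
set_option maxHeartbeats 1000000
set_option synthInstance.maxHeartbeats 400000
set_option backward.isDefEq.respectTransparency false

noncomputable section

namespace Groth.Agent.RosTrace22

open Groth.Agent.AlgEquiv22 Groth.Agent.MumVan22 Groth.Agent.Index22

noncomputable local instance instLawRosLam (Y : Scheme.{u}) : PicGrp.Law Y := M2.law Y

variable {k : Type u} [Field k] {A : Over (Spec (CommRingCat.of k))} [GrpObj A]

theorem mu_eq : μ[A] = fst A A * snd A A := by rw [Hom.mul_def, lift_fst_snd, Category.id_comp]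

variable [IsProper A.hom] [GeometricallyIntegral A.hom]

theorem cls_mul_mul {X : Scheme.{u}} {L N P : X.Modules} (hL : PicF.IsInvertible L) (hN : PicF.IsInvertible N)
    (hP : PicF.IsInvertible P) :
    PicGrp.cls (CohB1.tensorMod (CohB1.tensorMod L N) P) (M2.isInvertible_tensor (M2.isInvertible_tensor hL hN) hP) =
      PicGrp.cls L hL * PicGrp.cls N hN * PicGrp.cls P hP := by
  rw [cls_tensor hL hN, cls_tensor (M2.isInvertible_tensor hL hN) hP]

theorem pb_cls' {B C : Over (Spec (CommRingCat.of k))} (f : B ⟶ C) {M : C.left.Modules} (hM : PicF.IsInvertible M) :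
    pb f (PicGrp.cls M hM) = PicGrp.cls ((Scheme.Modules.pullback f.left).obj M) (PicLoc.isInvertible_pullback _ hM) :=
  PicGrp.pullHom_cls _ _ _ _

theorem isLambdaSheaf_iff {L : A.left.Modules} (hL : PicF.IsInvertible L) {N : (A ⊗ A).left.Modules}
    (hN : PicF.IsInvertible N) :
    AgPol.IsLambdaSheaf (μ[A].left : PicF.XT A.hom A ⟶ A.left) (fst A A).left (snd A A).left L N ↔
      PicGrp.cls N hN = RR22.mumC (PicGrp.cls L hL) := by
  rw [AgPol.IsLambdaSheaf, eq_comm, RR22.mumC, mul_inv_eq_iff_eq_mul, mul_inv_eq_iff_eq_mul, ← mu_eq,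
    pb_cls', pb_cls', pb_cls', mul_right_comm, ← cls_mul_mul hN (PicLoc.isInvertible_pullback _ hL)
      (PicLoc.isInvertible_pullback _ hL), eq_comm]
  exact (PicGrp.cls_eq_cls_iff _ _).symm

theorem smooth_hom : Smooth A.hom :=
  @smooth_of_grpObj k _ _ A.hom _ (show GrpObj (Over.mk A.hom) from ‹GrpObj A›) _

theorem geometricallyConnected_hom : GeometricallyConnected A.hom :=
  ⟨fun Ω _ y X' fst snd h => by
    haveI := GeometricallyIntegral.geometrically_isIntegral (f := A.hom) y fst snd h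
    infer_instance⟩

variable {At : Over (Spec (CommRingCat.of k))} [GrpObj At] [IsProper At.hom]
  {φ : ∀ T : Over (Spec (CommRingCat.of k)), PicF.Cl (PicF.XT A.hom T) → (T ⟶ At)}

/-- The morphism to the dual attached to a class. -/
def lamOf (φ : ∀ T : Over (Spec (CommRingCat.of k)), PicF.Cl (PicF.XT A.hom T) → (T ⟶ At))
    (e : PicLoc.PicSet A.left) : A ⟶ At := φ A (RR22.mumC e).1

theorem picZero_mumC (e : PicLoc.PicSet A.left) : AbDual.IsPicZeroCl A.hom A (RR22.mumC e).1 := by
  haveI := smooth_hom (A := A); haveI := geometricallyConnected_hom (A := A)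
  obtain ⟨L, hL, rfl⟩ := PicGrp.exists_eq_cls e
  obtain ⟨N, hN, hNc⟩ := PicGrp.exists_eq_cls (RR22.mumC (PicGrp.cls L hL) : PicLoc.PicSet (A ⊗ A).left)
  rw [hNc, PicGrp.cls_val]
  exact AgPol22.picZero_mum hL hN ((isLambdaSheaf_iff hL hN).2 hNc.symm)

theorem lamOf_eq_of_isLambda {L : A.left.Modules} (hL : PicF.IsInvertible L) {lam : A ⟶ At}
    (h : AgPol.IsLambda A At φ L lam) : lam = lamOf φ (PicGrp.cls L hL) := by
  obtain ⟨N, hN, hs, rfl⟩ := h
  rw [lamOf, ← (isLambdaSheaf_iff hL hN).1 hs, PicGrp.cls_val]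

variable (hφ : AbDual.IsDualAV Scheme.fppfPrecoverage A At φ)

include hφ in
theorem isMonHom_lamOf (e : PicLoc.PicSet A.left) : IsMonHom (lamOf φ e) := by
  haveI := smooth_hom (A := A); haveI := geometricallyConnected_hom (A := A)
  obtain ⟨L, hL, rfl⟩ := PicGrp.exists_eq_cls e
  obtain ⟨N, hN, hNc⟩ := PicGrp.exists_eq_cls (RR22.mumC (PicGrp.cls L hL) : PicLoc.PicSet (A ⊗ A).left)
  rw [lamOf, hNc, PicGrp.cls_val]
  exact AgPol22.isMonHom_phi hφ hL hN ((isLambdaSheaf_iff hL hN).2 hNc.symm)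

include hφ in
/-- The pairing of a class through the dual. -/
theorem bil_eq_ev {ξ : PicF.Cl (PicF.XT A.hom At)} (hξ : AbDual.IsPoincareCl A At φ ξ) (e : PicLoc.PicSet A.left)
    {W : Over (Spec (CommRingCat.of k))} (x y : W ⟶ A) : bil e x y = AgPol22.ev hξ x (y ≫ lamOf φ e) := by
  haveI := smooth_hom (A := A); haveI := geometricallyConnected_hom (A := A)
  obtain ⟨N, hN, hNc⟩ := PicGrp.exists_eq_cls (RR22.mumC e : PicLoc.PicSet (A ⊗ A).left)
  obtain ⟨P, rfl, hP⟩ := AbDual21.picZero_invertible hξ.1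
  have h0 : AbDual.IsPicZeroCl A.hom A (PicF.cl N) := by
    rw [← PicGrp.cls_val N hN, ← hNc]; exact picZero_mumC e
  have h := RR22.cl_eq_pull_poincare hφ h0 (c := e) (by rw [hNc, PicGrp.cls_val]) hξ
  have h' : RR22.mumC e = pb (A ◁ lamOf φ e) (AgPol22.pcls hξ) := by
    apply Subtype.ext
    rw [lamOf, hNc, PicGrp.cls_val, PicGrp.pullHom_apply_val]
    exact h
  have h2 := congrArg (pb (lift x y)) h'
  rw [pb_pb, lift_whiskerLeft] at h2
  show bil e x y = pb (lift x (y ≫ lamOf φ e)) (AgPol22.pcls hξ)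
  rw [← h2]
  simp only [RR22.mumC, bil, map_mul, map_inv, pb_pb, MonObj.comp_mul, lift_fst, lift_snd, mul_inv_rev]
  rw [_root_.mul_assoc, mul_comm (pb x e)⁻¹]

variable [IsAlgClosed k]

include hφ in
/-- The morphism attached to an ample class is finite. -/
theorem isFinite_lamOf {L : A.left.Modules} (hL : CohB1.IsAmple L) :
    IsFinite (lamOf φ (PicGrp.cls L hL.1)).left := by
  haveI := smooth_hom (A := A); haveI := geometricallyConnected_hom (A := A)
  haveI := isMonHom_lamOf hφ (PicGrp.cls L hL.1)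
  set c := PicGrp.cls L hL.1
  obtain ⟨ξ, hξ⟩ := RR22.exists_poincare hφ
  refine Index22.isFinite_of_finite_points (lamOf φ c) fun b => ?_
  rcases Set.eq_empty_or_nonempty {a | a ≫ lamOf φ c = b} with he | ⟨a₀, ha₀⟩
  · rw [he]; exact Set.finite_empty
  refine Set.Finite.of_finite_image (f := fun a => a * a₀⁻¹) ((finite_fixing hL).subset ?_)
    fun x _ y _ h => mul_right_cancel h
  rintro _ ⟨a, ha, rfl⟩
  show pb (𝟙 A * (toUnit A ≫ (a * a₀⁻¹))) c = c
  have h1 : (a * a₀⁻¹) ≫ lamOf φ c = 1 := by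
    rw [MonObj.mul_comp, GrpObj.inv_comp, show a ≫ lamOf φ c = b from ha, show a₀ ≫ lamOf φ c = b from ha₀,
      mul_inv_cancel]
  rw [pb_translate, bil_eq_ev hφ hξ, Category.assoc, h1, MonObj.comp_one, AgPol22.ev_one_right hφ, _root_.mul_one]

include hφ in
/-- Every class gives an endomorphism through a polarisation. -/
theorem exists_endo [IsCommMonObj A] [GeometricallyIntegral At.hom] {L : A.left.Modules} (hL : CohB1.IsAmple L) :
    ∃ (n : ℕ), 0 < n ∧ Surjective (lamOf φ (PicGrp.cls L hL.1)).left ∧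
      ∀ e : PicLoc.PicSet A.left, ∃ a : EndAV.End A,
      a.toHom ≫ lamOf φ (PicGrp.cls L hL.1) = lamOf φ e ^ n ∧
      ∀ ⦃W : Over (Spec (CommRingCat.of k))⦄ (x y : W ⟶ A),
        bil (PicGrp.cls L hL.1) x (y ≫ a.toHom) = bil e x y ^ n := by
  haveI := smooth_hom (A := A); haveI := geometricallyConnected_hom (A := A)
  haveI := smooth_hom (A := At); haveI := geometricallyConnected_hom (A := At)
  haveI := AbRigid.geometricallyReduced_of_smooth A.hom
  haveI := AbRigid.geometricallyReduced_of_smooth At.hom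
  haveI : IsIntegral A.left := GeometricallyIntegral.isIntegral_of_subsingleton A.hom
  haveI : IsIntegral At.left := GeometricallyIntegral.isIntegral_of_subsingleton At.hom
  obtain ⟨ξ, hξ⟩ := RR22.exists_poincare hφ
  obtain ⟨g, hg⟩ := Index22.exists_dim (A := A)
  have hdim : topologicalKrullDim At.left = g := by
    obtain ⟨P, hPc, hP⟩ := AbDual21.picZero_invertible hξ.1
    subst hPc
    exact (Poincare22.exists_local hφ hP hξ hg).1
  set c := PicGrp.cls L hL.1
  set f := lamOf φ c
  haveI : IsMonHom f := isMonHom_lamOf hφ c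
  haveI : IsFinite f.left := isFinite_lamOf hφ hL
  haveI : Surjective f.left := AbRigid.surjective_of_isFinite A At f (hg.trans hdim.symm)
  haveI : Flat f.left := AbRigid.flat_of_surjective A At f
  obtain ⟨n, hn, -, -⟩ := IsogEuler22.exists_free f
  have hn0 : 0 < n := hn (f.left (genericPoint A.left)) ▸ Scheme.Hom.one_le_finrank_map f.left _
  obtain ⟨⟨ψ, ⟨hψm, hψ⟩, -⟩, hall⟩ := Groth.Agent.S7790.result A At f n hn0 fun s => hn _
  haveI := hψm
  obtain ⟨hψf, -⟩ := hall ψ hψm hψ
  refine ⟨n, hn0, ‹Surjective f.left›, fun e => ?_⟩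
  haveI := isMonHom_lamOf hφ e
  refine ⟨EndAV.End.of (lamOf φ e ≫ ψ), ?_, fun W x y => ?_⟩
  · rw [EndAV.End.toHom_of, Category.assoc, hψf, MonObj.comp_pow, Category.comp_id]
  rw [EndAV.End.toHom_of, bil_eq_ev hφ hξ, bil_eq_ev hφ hξ, Category.assoc, Category.assoc, hψf, MonObj.comp_pow,
    Category.comp_id, MonObj.comp_pow, AgPol22.ev_pow_right hφ]

end Groth.Agent.RosTrace22

end
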