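import Groth.Agent.Lib.RosTrace22.Positive

/-!
# Rosati adjoints and traces
-/

universe u

open CategoryTheory Limits MonoidalCategory CartesianMonoidalCategory AlgebraicGeometry
open scoped MonObj GrpObj

set_option linter.style.haveILetI false
set_option linter.unusedSectionVars false
set_option maxHeartbeats 1000000
set_option backward.isDefEq.respectTransparency false

noncomputable section

namespace Groth.Agent.RosTrace22

open Groth.Agent.AlgEquiv22 Groth.Agent.MumVan22 Groth.Agent.Index22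

noncomputable local instance instLawRosRos (Y : Scheme.{u}) : PicGrp.Law Y := M2.law Y

variable {k : Type u} [Field k] {A : Over (Spec (CommRingCat.of k))} [GrpObj A] [IsProper A.hom]
  [GeometricallyIntegral A.hom]

theorem cls_tensorPow {L : A.left.Modules} (hL : PicF.IsInvertible L) (n : ℕ) :
    PicGrp.cls L hL ^ n = PicGrp.cls (CohB1.tensorPow L n) (M2.isInvertible_tensorPow hL n) :=
  Subtype.ext (by rw [PicGrp.cls_pow_val, PicGrp.cls_val])

theorem cls_eq_of_iso {M₁ M₂ N₁ N₂ : A.left.Modules} (hM₁ : PicF.IsInvertible M₁) (hM₂ : PicF.IsInvertible M₂)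
    (hN₁ : PicF.IsInvertible N₁) (hN₂ : PicF.IsInvertible N₂)
    (h : Nonempty (CohB1.tensorMod M₁ M₂ ≅ CohB1.tensorMod N₁ N₂)) :
    PicGrp.cls M₁ hM₁ * PicGrp.cls M₂ hM₂ = PicGrp.cls N₁ hN₁ * PicGrp.cls N₂ hN₂ := by
  rw [cls_tensor hM₁ hM₂, cls_tensor hN₁ hN₂]
  exact (PicGrp.cls_eq_cls_iff _ _).2 h

theorem pb_cls {B : Over (Spec (CommRingCat.of k))} (f : A ⟶ B) {M : B.left.Modules} (hM : PicF.IsInvertible M) :
    pb f (PicGrp.cls M hM) = PicGrp.cls ((Scheme.Modules.pullback f.left).obj M) (PicLoc.isInvertible_pullback _ hM) :=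
  PicGrp.pullHom_cls _ _ _ _

theorem pb_bil {U V : Over (Spec (CommRingCat.of k))} (s : U ⟶ V) (c : PicLoc.PicSet A.left) (f g : V ⟶ A) :
    pb s (bil c f g) = bil c (s ≫ f) (s ≫ g) := by
  simp only [bil, map_mul, map_inv, pb_pb, MonObj.comp_mul]

variable [IsAlgClosed k]

theorem pb_translate (c : PicLoc.PicSet A.left) (x : 𝟙_ (Over (Spec (CommRingCat.of k))) ⟶ A) :
    pb (𝟙 A * (toUnit A ≫ x)) c = c * bil c (𝟙 A) (toUnit A ≫ x) := by
  rw [pb_mul, pb_id, pb_const, _root_.mul_one]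

theorem bil_one_right (c : PicLoc.PicSet A.left) {V : Over (Spec (CommRingCat.of k))} (g : V ⟶ A) :
    bil c g 1 = 1 := by rw [bil_comm, bil_one_left]

theorem bil_pow_left (c : PicLoc.PicSet A.left) {V : Over (Spec (CommRingCat.of k))} (f g : V ⟶ A) (n : ℕ) :
    bil c (f ^ n) g = bil c f g ^ n := by rw [← zpow_natCast, bil_zpow_left, zpow_natCast]

theorem bil_mul_right (c : PicLoc.PicSet A.left) {V : Over (Spec (CommRingCat.of k))} (f g g' : V ⟶ A) :
    bil c f (g * g') = bil c f g * bil c f g' := by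
  rw [bil_comm, bil_mul_left, bil_comm c g f, bil_comm c g' f]

/-- The adjunction, on all test objects. -/
theorem bil_adjoint (c : PicLoc.PicSet A.left) (a r : A ⟶ A) [IsMonHom a] (n : ℕ)
    (hρ : ∀ x : 𝟙_ (Over (Spec (CommRingCat.of k))) ⟶ A,
      pb (𝟙 A * (toUnit A ≫ x ≫ r)) c * pb a (c ^ n) = c * pb a (pb (𝟙 A * (toUnit A ≫ x)) (c ^ n)))
    {V : Over (Spec (CommRingCat.of k))} (x y : V ⟶ A) : bil c (x ≫ r) y = bil c x (y ≫ a) ^ n := by
  have hpt : ∀ t : 𝟙_ (Over (Spec (CommRingCat.of k))) ⟶ A,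
      bil c (toUnit A ≫ t ≫ r) (𝟙 A) = bil c (toUnit A ≫ t) a ^ n := fun t => by
    have h1 := hρ t
    rw [pb_translate, map_pow, map_pow, pb_translate, map_pow, map_mul, pb_bil, Category.comp_id, comp_toUnit_assoc,
      mul_pow, _root_.mul_assoc] at h1
    have h2 := mul_left_cancel h1
    rw [mul_comm (pb a c ^ n)] at h2
    rw [bil_comm, mul_right_cancel h2, bil_comm]
  let E := bil c (snd A A ≫ r) (fst A A) * (bil c (snd A A) (fst A A ≫ a) ^ n)⁻¹
  have key : ∀ {W : Over (Spec (CommRingCat.of k))} (s : W ⟶ A ⊗ A) (f g : W ⟶ A),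
      s ≫ fst A A = f → s ≫ snd A A = g → pb s E = bil c (g ≫ r) f * (bil c g (f ≫ a) ^ n)⁻¹ := by
    intro W s f g hf hg
    simp only [E, map_mul, map_inv, map_pow, pb_bil, ← Category.assoc, hf, hg]
  have hE : E = 1 := by
    obtain ⟨N, hN, hEN⟩ := PicGrp.exists_eq_cls E
    rw [hEN, PicGrp.cls_eq_one_iff]
    refine CubeField.isTriv_of_point_slices (1 : 𝟙_ _ ⟶ A) CubeField.finH1 N hN (fun t => ?_) ?_
    · rw [isTriv_iff _ hN, ← hEN, key _ (𝟙 A) (toUnit A ≫ t) (lift_fst _ _) (lift_snd _ _), Category.assoc,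
        Category.id_comp, hpt t, mul_inv_cancel]
    · rw [isTriv_iff _ hN, ← hEN, key _ (toUnit A ≫ 1) (𝟙 A) (lift_fst _ _) (lift_snd _ _), MonObj.comp_one,
        MonObj.one_comp, bil_one_right, bil_one_right, _root_.one_pow, _root_.one_mul, _root_.inv_one]
  have h := key (lift y x) y x (lift_fst _ _) (lift_snd _ _)
  rw [hE, map_one, eq_comm, mul_inv_eq_one] at h
  exact h

variable [IsCommMonObj A]

/-- Two endomorphisms with Rosati adjoints. -/
theorem bil_mul_symm (c : PicLoc.PicSet A.left) (α β ρ σ : EndAV.End A) (n : ℕ)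
    (hρ : ∀ x : 𝟙_ (Over (Spec (CommRingCat.of k))) ⟶ A,
      pb (𝟙 A * (toUnit A ≫ x ≫ ρ.toHom)) c * pb α.toHom (c ^ n) =
        c * pb α.toHom (pb (𝟙 A * (toUnit A ≫ x)) (c ^ n)))
    (hσ : ∀ x : 𝟙_ (Over (Spec (CommRingCat.of k))) ⟶ A,
      pb (𝟙 A * (toUnit A ≫ x ≫ σ.toHom)) c * pb β.toHom (c ^ n) =
        c * pb β.toHom (pb (𝟙 A * (toUnit A ≫ x)) (c ^ n))) :
    bil c (ρ * β).toHom (𝟙 A) = bil c (σ * α).toHom (𝟙 A) := by
  rw [EndAV.End.toHom_mul, EndAV.End.toHom_mul, bil_adjoint c _ _ n hρ, bil_adjoint c _ _ n hσ, Category.id_comp,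
    Category.id_comp, bil_comm]

theorem chi_ne_zero {h : ℕ} (hh : topologicalKrullDim A.left = ((h + 1 : ℕ) : WithBot ℕ∞)) {L : A.left.Modules}
    (hL : CohB1.IsAmple L) : 0 < chi (PicGrp.cls L hL.1) := by
  letI : A.left.Over (Spec (CommRingCat.of k)) := ⟨A.hom⟩
  haveI : IsProper (A.left ↘ Spec (CommRingCat.of k)) := inferInstanceAs (IsProper A.hom)
  haveI : IsIntegral A.left := GeometricallyIntegral.isIntegral_of_subsingleton A.hom
  haveI : IsNoetherian A.left := CohFound.isNoetherian_of_isProper A.hom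
  set c := PicGrp.cls L hL.1
  have hO := M1.isCoh_structureModule A.left
  obtain ⟨P, hP⟩ := Snapper.exists_isHilbPoly k hL.1 hO
  have hsupp : topologicalKrullDim (CohB1.support (Coh.structureModule A.left)) = ((h + 1 : ℕ) : WithBot ℕ∞) := by
    rw [show CohB1.support (Coh.structureModule A.left) = Set.univ from
      Set.eq_univ_of_forall fun x => CohGab13.mem_support_structureModule x]
    exact (Homeomorph.Set.univ A.left).isHomeomorph.topologicalKrullDim_eq.trans hh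
  have hpos := Snapper.coeff_isHilbPoly_pos hL hO hsupp hP
  obtain ⟨Q, hQ, hQe⟩ := exists_form hh ![c]
  have hchi : ∀ m : ℕ, chi (c ^ m) = (m : ℚ) ^ (h + 1) * MvPolynomial.eval (fun _ => (1 : ℚ)) Q := fun m => by
    have h1 := hQe ![m]
    simp only [Fin.prod_univ_one, Matrix.cons_val_fin_one] at h1
    rw [h1, ← eval_smul_of_isHomogeneous hQ]
    exact congrArg (fun f => MvPolynomial.eval f Q) (funext fun _ => by simp)
  have hc1 := hchi 1
  rw [pow_one, Nat.cast_one, _root_.one_pow, _root_.one_mul] at hc1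
  have hPeq : P = Polynomial.C (chi c) * Polynomial.X ^ (h + 1) := by
    refine RR22.poly_ext 0 fun m _ => ?_
    rw [Polynomial.eval_mul, Polynomial.eval_C, Polynomial.eval_pow, Polynomial.eval_X, mul_comm, hc1, ← hchi m,
      ← hP m, cls_tensorPow hL.1 m, chi_cls]
    exact congrArg Int.cast (CurveCoh17.euler_iso (M2.tensorLUnit _))
  rw [hPeq, Polynomial.coeff_C_mul, Polynomial.coeff_X_pow, if_pos rfl, _root_.mul_one] at hpos
  exact hpos

theorem coeff_eq_of_dim_zero {r : ℕ} (hr : r = 0) {P : Polynomial ℚ} (hP : P.Monic) (hd : P.natDegree = 2 * r) :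
    P.coeff (2 * r - 1) = 1 := by
  subst hr
  rw [show P = 1 from Polynomial.eq_one_of_monic_natDegree_zero hP hd]
  simp

/-- The positivity equation, solved for the translate. -/
theorem translate_of_mul (c d : PicLoc.PicSet A.left) (a : A ⟶ A) (m : ℕ)
    (x : 𝟙_ (Over (Spec (CommRingCat.of k))) ⟶ A)
    (h1 : pb (𝟙 A * (toUnit A ≫ x)) d * c ^ m = d * pb (𝟙 A * (toUnit A ≫ x ≫ a)) (c ^ m)) :
    pb (𝟙 A * (toUnit A ≫ x)) d = d * bil c (𝟙 A) (toUnit A ≫ x ≫ a) ^ m := by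
  rw [map_pow, pb_translate c (x ≫ a), mul_pow, mul_comm (c ^ m), ← _root_.mul_assoc] at h1
  exact mul_right_cancel h1

/-- A positive symmetric endomorphism: the class of its pairing is half the divisor. -/
theorem inv_of_positive (c d : PicLoc.PicSet A.left) (a : A ⟶ A) [IsMonHom a] (m : ℕ)
    (hsym : ∀ x : 𝟙_ (Over (Spec (CommRingCat.of k))) ⟶ A,
      bil c (toUnit A ≫ x ≫ a) (𝟙 A) = bil c (toUnit A ≫ x) a)
    (hd : ∀ x : 𝟙_ (Over (Spec (CommRingCat.of k))) ⟶ A,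
      pb (𝟙 A * (toUnit A ≫ x)) d = d * bil c (𝟙 A) (toUnit A ≫ x ≫ a) ^ m) :
    AlgEquiv22.Inv (bil c a (𝟙 A) ^ m * (d ^ 2)⁻¹) := fun x => by
  set D := bil c a (𝟙 A)
  set v := bil c (𝟙 A) (toUnit A ≫ x ≫ a)
  have hsx : bil c (toUnit A ≫ x) a = v := by rw [← hsym x, bil_comm]
  have hD : pb (𝟙 A * (toUnit A ≫ x)) D = D * (v * v) := by
    rw [pb_bil, Category.comp_id, MonObj.mul_comp, Category.id_comp, Category.assoc, bil_mul_left, bil_mul_right,
      bil_mul_right, bil_comm c a (toUnit A ≫ x), hsx, bil_comm c (toUnit A ≫ x ≫ a) (𝟙 A)]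
    rw [show bil c (toUnit A ≫ x ≫ a) (toUnit A ≫ x) = 1 by
      rw [← pb_bil, point_eq_one (bil c (x ≫ a) x), map_one]]
    rw [_root_.mul_one, _root_.mul_assoc]
  rw [map_mul, map_inv, map_pow, map_pow, hD, hd x, ← pow_two v, mul_pow D, ← pow_mul, Nat.mul_comm 2 m,
    mul_pow d, ← pow_mul, mul_inv_rev, _root_.mul_assoc, mul_inv_cancel_left]

/-- A positive symmetric endomorphism has positive trace. -/
theorem trace_pos {h : ℕ} (hh : topologicalKrullDim A.left = ((h + 1 : ℕ) : WithBot ℕ∞)) {L : A.left.Modules}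
    (hL : CohB1.IsAmple L) (α : EndAV.End A)
    (hsym : ∀ x : 𝟙_ (Over (Spec (CommRingCat.of k))) ⟶ A,
      bil (PicGrp.cls L hL.1) (toUnit A ≫ x ≫ α.toHom) (𝟙 A) = bil (PicGrp.cls L hL.1) (toUnit A ≫ x) α.toHom)
    {m : ℕ} (hm : 1 ≤ m) {M : A.left.Modules} (hM : PicF.IsInvertible M)
    (s : Coh.structureModule A.left ⟶ M) (hs : s ≠ 0) (hs' : ¬ IsIso s)
    (hpos : ∀ x : 𝟙_ (Over (Spec (CommRingCat.of k))) ⟶ A,
      pb (𝟙 A * (toUnit A ≫ x)) (PicGrp.cls M hM) * PicGrp.cls L hL.1 ^ m =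
        PicGrp.cls M hM * pb (𝟙 A * (toUnit A ≫ x ≫ α.toHom)) (PicGrp.cls L hL.1 ^ m))
    (P : Polynomial ℚ)
    (hP : ∀ j : ℤ, (IsFinite (EndAV.End.toHom (α + (j : EndAV.End A))).left →
          ∀ a : A.left, (Scheme.Hom.finrank (EndAV.End.toHom (α + (j : EndAV.End A))).left a : ℚ) = P.eval (j : ℚ)) ∧
        (¬ IsFinite (EndAV.End.toHom (α + (j : EndAV.End A))).left → P.eval (j : ℚ) = 0)) :
    0 < P.coeff (2 * h + 1) := by
  haveI : IsIntegral A.left := GeometricallyIntegral.isIntegral_of_subsingleton A.hom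
  set c := PicGrp.cls L hL.1
  set d := PicGrp.cls M hM
  set D := bil c α.toHom (𝟙 A)
  have hinv : AlgEquiv22.Inv (D ^ m * (d ^ 2)⁻¹) :=
    inv_of_positive c d α.toHom m hsym fun x => translate_of_mul c d α.toHom m x (hpos x)
  have hT := T_congr h c hinv
  rw [T_pow hh, T_pow hh] at hT
  have h1 := coeff_mul_chi hh c α P hP
  have h2 := T_pos hh hL hM s hs hs'
  have h3 := chi_ne_zero hh hL
  have hm' : (0 : ℚ) < m := by exact_mod_cast hm
  have h4 : 0 < (m : ℚ) * (P.coeff (2 * h + 1) * chi c) := by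
    rw [h1, hT]
    positivity
  exact pos_of_mul_pos_left (pos_of_mul_pos_right h4 hm'.le) h3.le

end Groth.Agent.RosTrace22

end
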