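import Groth.Agent.Lib.RR22.Poly
import Groth.Agent.Lib.RR22.Classify
import Groth.Agent.Lib.AVDegree22.CharPoly

/-!
# The Euler characteristic as a homogeneous form on the Picard group of an abelian variety
-/

universe u

open CategoryTheory Limits MonoidalCategory CartesianMonoidalCategory AlgebraicGeometry
open scoped MonObj GrpObj

set_option linter.style.haveILetI false
set_option linter.unusedSectionVars false
set_option maxHeartbeats 1000000
set_option backward.isDefEq.respectTransparency false

noncomputable section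

namespace Groth.Agent.RosTrace22

open Groth.Agent.AlgEquiv22 Groth.Agent.MumVan22 Groth.Agent.Index22

noncomputable local instance instLawRosChi (Y : Scheme.{u}) : PicGrp.Law Y := M2.law Y

variable {k : Type u} [Field k] {A : Over (Spec (CommRingCat.of k))} [GrpObj A] [IsProper A.hom]
  [GeometricallyIntegral A.hom]

/-- A module in a class. -/
def rep (c : PicLoc.PicSet A.left) : A.left.Modules := (PicGrp.exists_eq_cls c).choose

theorem rep_inv (c : PicLoc.PicSet A.left) : PicF.IsInvertible (rep c) :=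
  (PicGrp.exists_eq_cls c).choose_spec.choose

theorem cls_rep (c : PicLoc.PicSet A.left) : PicGrp.cls (rep c) (rep_inv c) = c :=
  (PicGrp.exists_eq_cls c).choose_spec.choose_spec.symm

/-- The Euler characteristic of a class. -/
def chi (c : PicLoc.PicSet A.left) : ℚ :=
  (@Curv2.euler k _ A.left ⟨A.hom⟩ (rep c) : ℚ)

theorem chi_cls {L : A.left.Modules} (hL : PicF.IsInvertible L) :
    chi (PicGrp.cls L hL) = (@Curv2.euler k _ A.left ⟨A.hom⟩ L : ℚ) := by
  letI : A.left.Over (Spec (CommRingCat.of k)) := ⟨A.hom⟩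
  obtain ⟨i⟩ := (PicGrp.cls_eq_cls_iff _ _).1 (cls_rep (PicGrp.cls L hL))
  exact congrArg Int.cast (CurveCoh17.euler_iso i)

theorem chi_eq_zero_of_not_nd [IsAlgClosed k] {c : PicLoc.PicSet A.left} (h : ¬ Nd c) : chi c = 0 := by
  obtain ⟨L, hL, rfl⟩ := PicGrp.exists_eq_cls c
  rw [chi_cls]
  exact_mod_cast euler_eq_zero_of_infinite hL h

/-- Twisting by a translation invariant class keeps the Euler characteristic. -/
theorem chi_mul_inv [IsAlgClosed k] (c : PicLoc.PicSet A.left) {e : PicLoc.PicSet A.left} (he : Inv e) :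
    chi (c * e) = chi c := by
  letI : A.left.Over (Spec (CommRingCat.of k)) := ⟨A.hom⟩
  have hstab : ∀ a : 𝟙_ (Over (Spec (CommRingCat.of k))) ⟶ A,
      pb (𝟙 A * (toUnit A ≫ a)) (c * e) = c * e ↔ pb (𝟙 A * (toUnit A ≫ a)) c = c := fun a => by
    rw [map_mul, he a]
    exact mul_left_inj e
  by_cases hnd : Nd c
  · obtain ⟨L, hL, rfl⟩ := PicGrp.exists_eq_cls c
    obtain ⟨E, hE, hEe⟩ := PicGrp.exists_eq_cls e
    subst hEe
    obtain ⟨a, ha⟩ := exists_translate hL hE he hnd
    haveI := isCommMonObj_of_isProper_of_geometricallyIntegral A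
    haveI : IsIso (𝟙 A * (toUnit A ≫ a)) := ⟨𝟙 A * (toUnit A ≫ a⁻¹), by
        rw [MonObj.comp_mul, Category.comp_id, comp_toUnit_assoc, _root_.mul_assoc, ← MonObj.comp_mul,
          mul_inv_cancel, MonObj.comp_one, _root_.mul_one], by
        rw [MonObj.comp_mul, Category.comp_id, comp_toUnit_assoc, _root_.mul_assoc, ← MonObj.comp_mul,
          inv_mul_cancel, MonObj.comp_one, _root_.mul_one]⟩
    haveI hi : IsIso (𝟙 A * (toUnit A ≫ a)).left :=
      inferInstanceAs (IsIso ((Over.forget _).map (𝟙 A * (toUnit A ≫ a))))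
    rw [mul_inv_eq_iff_eq_mul] at ha
    rw [mul_comm, ← ha, pb, PicGrp.pullHom_cls, chi_cls, chi_cls,
      IsogEuler22.euler_pullback (𝟙 A * (toUnit A ≫ a)) 1
        (fun y => congrFun (Scheme.Hom.finrank_eq_one_of_isIso _) y) (CubeField.isCoh_of_isInvertible hL)]
    simp
  · rw [chi_eq_zero_of_not_nd hnd, chi_eq_zero_of_not_nd fun h => hnd (h.subset fun a ha => (hstab a).2 ha)]

theorem chi_congr [IsAlgClosed k] {c d : PicLoc.PicSet A.left} (h : Inv (c * d⁻¹)) : chi c = chi d := by
  rw [← chi_mul_inv d h, mul_comm d, inv_mul_cancel_right]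

/-- Scaling by a square. -/
theorem chi_pow_sq [IsAlgClosed k] (c : PicLoc.PicSet A.left) {g : ℕ} (hg : topologicalKrullDim A.left = g) {n : ℕ}
    (hn : 0 < n) : chi (c ^ (n * n)) = (n : ℚ) ^ (2 * g) * chi c := by
  by_cases hnd : Nd c
  · obtain ⟨L, hL, rfl⟩ := PicGrp.exists_eq_cls c
    rw [show PicGrp.cls L hL ^ (n * n) = PicGrp.cls _ (M2.isInvertible_tensorPow hL (n * n)) from
      Subtype.ext (by rw [PicGrp.cls_pow_val, PicGrp.cls_val]), chi_cls, chi_cls, RR22.euler_sq_pow hL hnd hg hn]
    push_cast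
    rfl
  · rw [chi_eq_zero_of_not_nd hnd, mul_zero, chi_eq_zero_of_not_nd]
    exact fun h => hnd (h.subset fun a ha => by rw [Set.mem_setOf_eq] at ha ⊢; rw [map_pow, ha])

omit [GrpObj A] [IsProper A.hom] [GeometricallyIntegral A.hom] in
theorem eval_smul_of_isHomogeneous {σ : Type*} {Q : MvPolynomial σ ℚ} {d : ℕ} (hQ : Q.IsHomogeneous d) (t : ℚ)
    (v : σ → ℚ) : MvPolynomial.eval (fun i => t * v i) Q = t ^ d * MvPolynomial.eval v Q := by
  rw [MvPolynomial.eval_eq, MvPolynomial.eval_eq, Finset.mul_sum]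
  refine Finset.sum_congr rfl fun s hs => ?_
  have hd : ∑ i ∈ s.support, s i = d := by
    have := hQ (MvPolynomial.mem_support_iff.1 hs)
    rw [Finsupp.weight_apply, Finsupp.sum] at this
    simpa using this
  rw [← hd, ← Finset.prod_pow_eq_pow_sum]
  simp only [mul_pow, Finset.prod_mul_distrib]
  ring

/-- The Euler characteristic is a homogeneous polynomial in the exponents. -/
theorem exists_form [IsAlgClosed k] {g : ℕ} (hg : topologicalKrullDim A.left = g) {N : ℕ}
    (cs : Fin N → PicLoc.PicSet A.left) :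
    ∃ P : MvPolynomial (Fin N) ℚ, P.IsHomogeneous g ∧
      ∀ m : Fin N → ℕ, chi (∏ i, cs i ^ m i) = MvPolynomial.eval (fun i => (m i : ℚ)) P := by
  haveI : IsIntegral A.left := GeometricallyIntegral.isIntegral_of_subsingleton A.hom
  obtain ⟨P, -, hP⟩ := AVDegree22.exists_euler_class g hg.le (fun i => rep (cs i)) fun i => rep_inv (cs i)
  have key : ∀ m : Fin N → ℕ, chi (∏ i, cs i ^ m i) = MvPolynomial.eval (fun i => (m i : ℚ)) P := fun m => by
    refine hP m _ (rep_inv _) ?_
    rw [cls_rep]
    simp only [cls_rep]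
  refine ⟨P, ?_, key⟩
  have hQ : ∀ d, d ≠ g → MvPolynomial.homogeneousComponent d P = 0 := by
    intro d hd
    refine MvPolynomial.funext_set (fun _ => Set.range (Nat.cast : ℕ → ℚ))
      (fun _ => Set.infinite_range_of_injective Nat.cast_injective) fun x hx => ?_
    choose m hm using fun i => hx i trivial
    obtain rfl : (fun i => (m i : ℚ)) = x := funext hm
    let v : Fin N → ℚ := fun i => (m i : ℚ)
    let G : Polynomial ℚ := ∑ j ∈ Finset.range (P.totalDegree + 1),
      Polynomial.C (MvPolynomial.eval v (MvPolynomial.homogeneousComponent j P)) * Polynomial.X ^ j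
    have hG : G = Polynomial.C (MvPolynomial.eval v P) * Polynomial.X ^ g := by
      refine Polynomial.eq_of_infinite_eval_eq _ _ (Set.Infinite.mono ?_
        ((Set.Ici_infinite 1).image (f := fun n : ℕ => (((n * n : ℕ)) : ℚ)) (fun a _ b _ h => by
          exact Nat.mul_self_inj.1 (Nat.cast_injective (R := ℚ) h))))
      rintro _ ⟨n, hn, rfl⟩
      show G.eval _ = Polynomial.eval _ _
      have h1 := key fun i => n * n * m i
      have h2 : (∏ i, cs i ^ (n * n * m i)) = (∏ i, cs i ^ m i) ^ (n * n) := by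
        rw [← Finset.prod_pow]
        exact Finset.prod_congr rfl fun i _ => by rw [← pow_mul, Nat.mul_comm (n * n)]
      rw [h2, chi_pow_sq _ hg hn, key] at h1
      rw [Polynomial.eval_mul, Polynomial.eval_C, Polynomial.eval_pow, Polynomial.eval_X]
      calc G.eval ((n * n : ℕ) : ℚ) = MvPolynomial.eval (fun i => ((n * n * m i : ℕ) : ℚ)) P := by
            conv_rhs => rw [← MvPolynomial.sum_homogeneousComponent P, map_sum]
            rw [Polynomial.eval_finsetSum]
            refine Finset.sum_congr rfl fun j _ => ?_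
            rw [Polynomial.eval_mul, Polynomial.eval_C, Polynomial.eval_pow, Polynomial.eval_X,
              show (fun i => ((n * n * m i : ℕ) : ℚ)) = fun i => ((n * n : ℕ) : ℚ) * v i from
                funext fun i => by push_cast [v]; rfl,
              eval_smul_of_isHomogeneous (MvPolynomial.homogeneousComponent_isHomogeneous j P), mul_comm]
        _ = _ := by rw [← h1]; push_cast [v]; ring
    have hcoef := congrArg (Polynomial.coeff · d) hG
    simp only [G, Polynomial.finset_sum_coeff, Polynomial.coeff_C_mul, Polynomial.coeff_X_pow, hd, mul_ite,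
      mul_one, mul_zero, if_false, Finset.sum_ite_eq, Finset.mem_range] at hcoef
    rw [map_zero]
    split_ifs at hcoef with h
    · exact hcoef
    · rw [MvPolynomial.homogeneousComponent_eq_zero _ _ (by omega), map_zero]
  rw [← MvPolynomial.sum_homogeneousComponent P]
  refine MvPolynomial.IsHomogeneous.sum _ _ _ fun d _ => ?_
  by_cases hd : d = g
  · exact hd ▸ MvPolynomial.homogeneousComponent_isHomogeneous d P
  · rw [hQ d hd]; exact MvPolynomial.isHomogeneous_zero _ _ _

/-- The pullback by an endomorphism multiplies by the degree. -/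
theorem chi_pullback [IsAlgClosed k] [IsCommMonObj A] [IsIntegral A.left] (β : EndAV.End A)
    (c : PicLoc.PicSet A.left) : chi (pb β.toHom c) = (AVDegree22.deg0 β : ℚ) * chi c := by
  obtain ⟨L, hL, rfl⟩ := PicGrp.exists_eq_cls c
  rw [pb, PicGrp.pullHom_cls, chi_cls, chi_cls]
  by_cases hf : IsFinite β.toHom.left
  · haveI := hf
    haveI := (AVDegree22.finite_props β hf).2.1
    rw [AVDegree22.deg0_of_finite hf, IsogEuler22.euler_pullback β.toHom (AVDegree22.deg β)
      (AVDegree22.finrank_eq_deg β) (CubeField.isCoh_of_isInvertible hL)]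
    push_cast
    rfl
  · rw [AVDegree22.deg0_of_not_finite hf, RR22.euler_eq_zero_of_not_isFinite β.toHom hf hL
      (PicLoc.isInvertible_pullback _ hL) (PicLoc.pullCl_cl _ _).symm]
    simp

end Groth.Agent.RosTrace22

end
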