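import Groth.Agent.Lib.RosTrace22.TraceForm
import Groth.Agent.Lib.AVDegree22.IrrMinpoly

/-!
# Positive symmetric endomorphisms and sums of squares
-/

universe u

open CategoryTheory Limits MonoidalCategory CartesianMonoidalCategory AlgebraicGeometry
open scoped MonObj GrpObj TensorProduct

set_option linter.style.haveILetI false
set_option linter.unusedSectionVars false
set_option maxHeartbeats 1000000
set_option synthInstance.maxHeartbeats 400000
set_option backward.isDefEq.respectTransparency false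

noncomputable section

namespace Groth.Agent.RosTrace22

open Groth.Agent.AlgEquiv22 Groth.Agent.MumVan22 Groth.Agent.Index22

noncomputable local instance instLawRosE0 (Y : Scheme.{u}) : PicGrp.Law Y := M2.law Y

variable {k : Type u} [Field k] [IsAlgClosed k] {A : Over (Spec (CommRingCat.of k))} [GrpObj A] [IsCommMonObj A]
  [IsProper A.hom] [GeometricallyIntegral A.hom]

/-- An element of `ℚ[α]` is a rational multiple of a symmetric endomorphism which is a polynomial in `α`. -/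
theorem exists_rep (c : PicLoc.PicSet A.left) {α : EndAV.End A} (hα : Sym c α) {x : EndAV.End0 A}
    (hx : x ∈ EndAV.QAdj α) : ∃ (q : ℚ) (p : EndAV.End A), q ≠ 0 ∧ Sym c p ∧ x = q • EndAV.toEnd0 p := by
  rw [EndAV.QAdj, Algebra.adjoin_singleton_eq_range_aeval] at hx
  obtain ⟨f, rfl⟩ := hx
  obtain ⟨b, hb⟩ := IsLocalization.integerNormalization_map_to_map (nonZeroDivisors ℤ) f
  have hb0 : ((b : ℤ) : ℚ) ≠ 0 := Int.cast_ne_zero.2 (nonZeroDivisors.coe_ne_zero b)
  refine ⟨((b : ℤ) : ℚ)⁻¹, Polynomial.aeval α (IsLocalization.integerNormalization (nonZeroDivisors ℤ) f),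
    inv_ne_zero hb0, hα.aeval _, ?_⟩
  rw [← Polynomial.aeval_algHom_apply, ← Polynomial.aeval_map_algebraMap ℚ, hb]
  rw [show (b : ℤ) • f = ((b : ℤ) : ℚ) • f from (Int.cast_smul_eq_zsmul ℚ _ f).symm, map_smul, smul_smul,
    inv_mul_cancel₀ hb0, one_smul]
  rfl

variable {h : ℕ} (hh : topologicalKrullDim A.left = ((h + 1 : ℕ) : WithBot ℕ∞))

/-- The trace on the rational endomorphism algebra. -/
def tr0 (c : PicLoc.PicSet A.left) : EndAV.End0 A →ₗ[ℚ] ℚ :=
  LinearMap.liftBaseChangeEquiv ℚ (tr hh c).toIntLinearMap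

theorem tr0_toEnd0 (c : PicLoc.PicSet A.left) (β : EndAV.End A) : tr0 hh c (EndAV.toEnd0 β) = tr hh c β :=
  (LinearMap.liftBaseChange_one_tmul ℚ (tr hh c).toIntLinearMap β)

theorem tr_zero_apply (c : PicLoc.PicSet A.left) : tr hh c (0 : EndAV.End A) = 0 := map_zero _

include hh in
theorem tr_sq_nonneg {L : A.left.Modules} (hL : CohB1.IsAmple L) (p q : EndAV.End A)
    (hp : Sym (PicGrp.cls L hL.1) p) (hq : Sym (PicGrp.cls L hL.1) q) :
    0 ≤ tr hh (PicGrp.cls L hL.1) (p * p * (q * q)) ∧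
      (tr hh (PicGrp.cls L hL.1) (p * p * (q * q)) = 0 → q * p = 0) := by
  set c := PicGrp.cls L hL.1
  have e : tr hh c (p * p * (q * q)) = tr hh c (p * q * (q * p)) := by
    rw [_root_.mul_assoc p p, tr_comm hh c p (p * (q * q))]
    simp only [_root_.mul_assoc]
  rw [e]
  by_cases h0 : q * p = 0
  · rw [h0, MulZeroClass.mul_zero, map_zero]
    exact ⟨le_rfl, fun _ => rfl⟩
  · have hpos := tr_pos_of_adjoint hh hL (q * p) (p * q) h0 fun V x y => by
      rw [EndAV.End.toHom_mul, EndAV.End.toHom_mul, ← Category.assoc, hp, hq, Category.assoc]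
    exact ⟨hpos.le, fun hz => absurd hz hpos.ne'⟩

include hh in
/-- A positive symmetric endomorphism is a sum of squares in the algebra it generates. -/
theorem exists_sumSq {L : A.left.Modules} (hL : CohB1.IsAmple L) {α : EndAV.End A}
    (hα : Sym (PicGrp.cls L hL.1) α) {m : ℕ} (hm : 1 ≤ m) {M : A.left.Modules} (hM : PicF.IsInvertible M)
    (s : Coh.structureModule A.left ⟶ M) (hs : s ≠ 0)
    (hpos : ∀ x : (𝟙_ (Over (Spec (CommRingCat.of k))) ⟶ A), Nonempty (CohB1.tensorMod ((Scheme.Modules.pullback ((𝟙 A * (toUnit A ≫ x))).left).obj (M)) (CohB1.tensorPow L m) ≅ CohB1.tensorMod (M) ((Scheme.Modules.pullback ((𝟙 A * (toUnit A ≫ x ≫ EndAV.End.toHom α))).left).obj (CohB1.tensorPow L m)))) :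
    ∃ (n : ℕ) (y : Fin n → EndAV.End0 A), (∀ i, y i ∈ EndAV.QAdj α) ∧ EndAV.toEnd0 α = ∑ i, y i ^ 2 := by
  set c := PicGrp.cls L hL.1
  haveI := AVCSA22.finite_end0 A
  letI : CommRing (EndAV.QAdj α) := Algebra.adjoinCommRingOfComm ℚ (by
    intro a ha b hb
    rw [Set.mem_singleton_iff.1 ha, Set.mem_singleton_iff.1 hb])
  letI : StarRing (EndAV.QAdj α) := starRingOfComm
  haveI : StarModule ℚ (EndAV.QAdj α) := ⟨fun r x => rfl⟩
  haveI : Module.Finite ℚ (EndAV.QAdj α) := FiniteDimensional.finiteDimensional_submodule (Subalgebra.toSubmodule (EndAV.QAdj α))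
  let σ : EndAV.QAdj α →ₗ[ℚ] ℚ := (tr0 hh c).comp (EndAV.QAdj α).val.toLinearMap
  let a : EndAV.QAdj α := ⟨EndAV.toEnd0 α, Algebra.self_mem_adjoin_singleton ℚ _⟩
  have hσpos : ∀ x : EndAV.QAdj α, x ≠ 0 → 0 < σ (x * star x) := fun x hx => by
    obtain ⟨q, p, hq, hp, hxp⟩ := exists_rep c hα x.2
    show 0 < tr0 hh c ((x : EndAV.End0 A) * (x : EndAV.End0 A))
    rw [hxp, smul_mul_smul_comm, ← map_mul, map_smul, tr0_toEnd0, smul_eq_mul]
    have hp0 : p ≠ 0 := fun h0 => hx (Subtype.ext (by rw [hxp, h0, map_zero, smul_zero]; rfl))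
    exact mul_pos (mul_self_pos.2 hq) (tr_pos_of_adjoint hh hL p p hp0 hp)
  obtain ⟨n, y, -, hy⟩ := PosInvolution.exists_sumSq_of_nonneg (R := EndAV.QAdj α) σ hσpos (x := a) rfl
    fun y _ => by
      obtain ⟨q, p, hq, hp, hyp⟩ := exists_rep c hα y.2
      show 0 ≤ tr0 hh c ((y : EndAV.End0 A) * EndAV.toEnd0 α * (y : EndAV.End0 A))
      rw [hyp, smul_mul_assoc, smul_mul_smul_comm, ← map_mul, ← map_mul, map_smul, tr0_toEnd0, smul_eq_mul]
      exact mul_nonneg (mul_self_nonneg q) (tr_conj_nonneg hh hL hα hm hM s hs hpos p hp)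
  refine ⟨n, fun i => (y i : EndAV.End0 A), fun i => (y i).2, ?_⟩
  have e := congrArg (EndAV.QAdj α).val hy
  rw [map_sum] at e
  simp only [map_pow] at e
  exact e

include hh in
/-- The trace of the product of two sums of squares is positive. -/
theorem tr_mul_pos {L : A.left.Modules} (hL : CohB1.IsAmple L) {α β : EndAV.End A}
    (hα : Sym (PicGrp.cls L hL.1) α) (hβ : Sym (PicGrp.cls L hL.1) β)
    {n : ℕ} {y : Fin n → EndAV.End0 A} (hy : ∀ i, y i ∈ EndAV.QAdj α) (hαy : EndAV.toEnd0 α = ∑ i, y i ^ 2)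
    {n' : ℕ} {z : Fin n' → EndAV.End0 A} (hz : ∀ j, z j ∈ EndAV.QAdj β) (hβz : EndAV.toEnd0 β = ∑ j, z j ^ 2)
    (hαβ : α * β ≠ 0) : 0 < tr hh (PicGrp.cls L hL.1) (α * β) := by
  set c := PicGrp.cls L hL.1
  choose a p ha hp hyp using fun i => exists_rep c hα (hy i)
  choose b q hb hq hzq using fun j => exists_rep c hβ (hz j)
  have hterm : ∀ i j, tr0 hh c (y i ^ 2 * z j ^ 2) = a i * a i * (b j * b j) * tr hh c (p i * p i * (q j * q j)) :=
    fun i j => by
      rw [hyp, hzq, pow_two, pow_two, smul_mul_smul_comm, smul_mul_smul_comm, smul_mul_smul_comm, ← map_mul,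
        ← map_mul, ← map_mul, map_smul, tr0_toEnd0, smul_eq_mul]
  have e : tr hh c (α * β) = ∑ i, ∑ j, tr0 hh c (y i ^ 2 * z j ^ 2) := by
    rw [← tr0_toEnd0, map_mul, hαy, hβz, Finset.sum_mul, map_sum]
    simp only [Finset.mul_sum, map_sum]
  have hnn : ∀ i j, 0 ≤ tr0 hh c (y i ^ 2 * z j ^ 2) := fun i j => by
    rw [hterm]
    exact mul_nonneg (mul_nonneg (mul_self_nonneg _) (mul_self_nonneg _))
      (tr_sq_nonneg hh hL _ _ (hp i) (hq j)).1
  refine lt_of_le_of_ne (e ▸ Finset.sum_nonneg fun i _ => Finset.sum_nonneg fun j _ => hnn i j) fun h0 => ?_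
  rw [e, eq_comm, Finset.sum_eq_zero_iff_of_nonneg fun i _ => Finset.sum_nonneg fun j _ => hnn i j] at h0
  have hzy : ∀ i j, z j * y i = 0 := fun i j => by
    have h1 := (Finset.sum_eq_zero_iff_of_nonneg fun j _ => hnn i j).1 (h0 i (Finset.mem_univ _)) j (Finset.mem_univ _)
    rw [hterm] at h1
    rcases mul_eq_zero.1 h1 with h2 | h2
    · rcases mul_eq_zero.1 h2 with h3 | h3
      · exact absurd (mul_self_eq_zero.1 h3) (ha i)
      · exact absurd (mul_self_eq_zero.1 h3) (hb j)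
    · rw [hyp, hzq, smul_mul_smul_comm, ← map_mul, (tr_sq_nonneg hh hL _ _ (hp i) (hq j)).2 h2, map_zero, smul_zero]
  have hba : β * α = 0 := by
    refine AVDegree22.toEnd0_injective (A := A) ?_
    rw [map_mul, hαy, hβz, map_zero, Finset.sum_mul]
    refine Finset.sum_eq_zero fun j _ => ?_
    rw [Finset.mul_sum]
    refine Finset.sum_eq_zero fun i _ => ?_
    rw [pow_two, pow_two, _root_.mul_assoc, ← _root_.mul_assoc (z j) (y i), hzy]
    simp
  have hadj : ∀ ⦃V : Over (Spec (CommRingCat.of k))⦄ (x y : V ⟶ A),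
      bil c (x ≫ (β * α).toHom) y = bil c x (y ≫ (α * β).toHom) := fun V x y => by
    rw [EndAV.End.toHom_mul, EndAV.End.toHom_mul, ← Category.assoc, hβ, hα, Category.assoc]
  have hpos := tr_pos_of_adjoint hh hL (α * β) (β * α) hαβ hadj
  rw [hba, MulZeroClass.zero_mul, map_zero] at hpos
  exact lt_irrefl _ hpos

end Groth.Agent.RosTrace22

end
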