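import Groth.Agent.Lib.RosTrace22.Trace
import Groth.Agent.Lib.Snapper.Hilb
import Groth.Agent.Lib.SecDiv18.Basic
import Groth.Agent.Lib.SecDiv18.Stalk
import Groth.Agent.Lib.NumPoly18.Divisor
import Groth.Agent.Lib.NumPoly18.SurfProj
import Groth.Agent.Lib.NumPoly18.SecImageGrowth
import Groth.Agent.Lib.RegImm26.Diag

/-!
# Positivity of `T` on effective classes
-/

universe u

open CategoryTheory Limits MonoidalCategory CartesianMonoidalCategory AlgebraicGeometry TopologicalSpace
open scoped MonObj GrpObj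

set_option linter.style.haveILetI false
set_option linter.unusedSectionVars false
set_option maxHeartbeats 1000000
set_option backward.isDefEq.respectTransparency false

noncomputable section

namespace Groth.Agent.RosTrace22

open Groth.Agent.AlgEquiv22 Groth.Agent.MumVan22 Groth.Agent.Index22

noncomputable local instance instLawRosPos (Y : Scheme.{u}) : PicGrp.Law Y := M2.law Y

/-- The zero locus of a regular equation at a maximal point has codimension one. -/
theorem coheight_eq_one {X : Scheme.{u}} [IsLocallyNoetherian X] {D : X.IdealSheafData}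
    (hD : BlowUp.IsEffCartierIdeal D) {x : X} (hx : x ∈ (D.support : Set X))
    (hgen : ∀ y ∈ (D.support : Set X), y ⤳ x → y = x) : Order.coheight x = 1 := by
  obtain ⟨U, hxU, f, -, hf, hfm, hq⟩ := SecDiv.exists_stalk_eqn hD hx
  have h1 := SecDiv.ringKrullDim_eq_one hf hfm (hq hgen)
  rw [ringKrullDim_stalk_eq_coheight] at h1
  exact_mod_cast h1

variable {k : Type u} [Field k] {A : Over (Spec (CommRingCat.of k))} [GrpObj A] [IsProper A.hom]
  [GeometricallyIntegral A.hom]

/-- The support of an effective Cartier divisor has codimension one. -/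
theorem dim_support_eq [IsIntegral A.left] {D : A.left.IdealSheafData} (hD : BlowUp.IsEffCartierIdeal D)
    (hne : (D.support : Set A.left).Nonempty) {h : ℕ}
    (hh : topologicalKrullDim A.left = ((h + 1 : ℕ) : WithBot ℕ∞)) :
    topologicalKrullDim (D.support : Set A.left) = (h : WithBot ℕ∞) := by
  haveI : Smooth A.hom :=
    @smooth_of_grpObj k _ _ A.hom _ (show GrpObj (Over.mk A.hom) from ‹GrpObj A›) _
  haveI : IsLocallyNoetherian A.left := LocallyOfFiniteType.isLocallyNoetherian A.hom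
  refine le_antisymm (NumPoly18.dim_support_effCartier hD hh.le) ?_
  have hbdd : ∀ y : A.left, VarDim.sdim A.hom y ≤ h + 1 := fun y => by
    have h1 := VarDim.dim_eq_iSup_sdim A.hom
    rw [hh] at h1
    have h2 : ((VarDim.sdim A.hom y : ℕ) : WithBot ℕ∞) ≤ ((h + 1 : ℕ) : WithBot ℕ∞) :=
      h1 ▸ le_iSup (fun y : A.left => ((VarDim.sdim A.hom y : ℕ) : WithBot ℕ∞)) y
    exact_mod_cast h2
  obtain ⟨x, hx, hmax⟩ : ∃ x ∈ (D.support : Set A.left), ∀ y ∈ (D.support : Set A.left),
      VarDim.sdim A.hom y ≤ VarDim.sdim A.hom x := by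
    have hb : BddAbove (VarDim.sdim A.hom '' (D.support : Set A.left)) :=
      ⟨h + 1, by rintro _ ⟨y, -, rfl⟩; exact hbdd y⟩
    obtain ⟨x, hx, e⟩ := Nat.sSup_mem (hne.image _) hb
    exact ⟨x, hx, fun y hy => e ▸ le_csSup hb ⟨y, hy, rfl⟩⟩
  have hgen : ∀ y ∈ (D.support : Set A.left), y ⤳ x → y = x := fun y hy hyx => by
    by_contra hne'
    exact (hmax y hy).not_gt (VarDim.sdim_lt_of_specializes A.hom hyx hne')
  obtain ⟨a, ha, hax⟩ := RegImm26.coheight_add_sdim A.hom hh x
  rw [coheight_eq_one hD hx hgen] at ha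
  have ha' : a = 1 := by exact_mod_cast ha.symm
  rw [VarDim.topologicalKrullDim_isClosed_eq_iSup_height D.support.isClosed]
  refine le_trans ?_ (le_iSup (fun z : (D.support : Set A.left) => ((Order.height (z : A.left) : ℕ∞) : WithBot ℕ∞)) ⟨x, hx⟩)
  show ((h : ℕ) : WithBot ℕ∞) ≤ ((Order.height x : ℕ∞) : WithBot ℕ∞)
  rw [VarDim.height_eq_sdim A.hom x, show VarDim.sdim A.hom x = h by omega]
  exact le_rfl

variable [IsAlgClosed k]

/-- A section which is not an isomorphism gives a divisor with nonempty support. -/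
theorem exists_divisor [IsIntegral A.left] {M : A.left.Modules} (hM : PicF.IsInvertible M)
    (s : Coh.structureModule A.left ⟶ M) (hs : s ≠ 0) (hs' : ¬ IsIso s) :
    ∃ (I : A.left.IdealSheafData) (hI : PicF.IsInvertible (ClSub.idealMod I)),
      BlowUp.IsEffCartierIdeal I ∧ (I.support : Set A.left).Nonempty ∧
        PicGrp.cls (ClSub.idealMod I) hI = (PicGrp.cls M hM)⁻¹ := by
  obtain ⟨D, hD, ⟨e⟩⟩ := M2.exists_inverse hM
  have hsv : Amp.gval s ≠ 0 := fun h0 => hs (by
    rw [← Amp.secHom_gval s, ← Amp.secHom_gval (0 : Coh.structureModule A.left ⟶ M), h0]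
    exact congrArg M1.secHom (by simp [Amp.gval]))
  haveI : Mono s := by
    rw [← Amp.secHom_gval s]
    exact (M1.mono_iff_stalk _).2
      (CurveCoh17.injective_stalk_secHom ((M2.isInvertible_iff_isFinLocFreeOfRank_one _).1 hM) hsv)
  haveI : Mono ((M2.tensorR D).map s) := NumPoly18.mono_tensor_right s hD
  let φ := (M2.tensorLUnit D).inv ≫ (M2.tensorR D).map s ≫ e.hom
  haveI : Mono φ := mono_comp' inferInstance (mono_comp' ‹Mono ((M2.tensorR D).map s)› inferInstance)
  haveI := M2.isQCoh_of_isFinLocFree (M2.isFinLocFree_of_isInvertible hD)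
  obtain ⟨i⟩ := SecDiv.nonempty_iso_idealMod φ
  have hI : PicF.IsInvertible (ClSub.idealMod (SecDiv.ofMono φ)) := M2.isInvertible_of_iso i hD
  have hc : PicGrp.cls (ClSub.idealMod (SecDiv.ofMono φ)) hI = (PicGrp.cls M hM)⁻¹ := by
    refine ((PicGrp.cls_eq_cls_iff hI hD).2 ⟨i.symm⟩).trans ?_
    exact Index22.cls_inverse hM hD ⟨e⟩
  refine ⟨SecDiv.ofMono φ, hI, SecDiv.isEffCartierIdeal_of_isInvertible _ hI, ?_, hc⟩
  by_contra hempty
  haveI : IsLocallyNoetherian A.left := LocallyOfFiniteType.isLocallyNoetherian A.hom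
  have hS := M2.shortExact_idealMod (SecDiv.ofMono φ)
  have hQ : IsZero (ClSub.quotMod (SecDiv.ofMono φ)) := Snapper.isZero_of_support_empty (by
    rw [NumPoly18.support_quotMod]; exact Set.not_nonempty_iff_eq_empty.1 hempty)
  haveI : IsIso (ClSub.idealModι (SecDiv.ofMono φ)) := hS.isIso_f_iff.2 hQ
  have hM1 : PicGrp.cls M hM = 1 := by
    rw [← inv_eq_one, ← hc, ← PicGrp.cls_structureModule_eq_one]
    exact (PicGrp.cls_eq_cls_iff _ _).2 ⟨asIso (ClSub.idealModι (SecDiv.ofMono φ))⟩
  rcases CubeField.genLocus_eq_bot_or_top_of_isTriv A.hom (((PicGrp.cls_eq_one_iff hM).1 hM1)) s with hb | ht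
  · have := CubeField.genLocus_nonempty_of_ne_zero hM hsv
    rw [show M1.secHom (Amp.gval s) = s from Amp.secHom_gval s, hb] at this
    exact Set.not_nonempty_empty this
  · refine hs' ?_
    haveI : Epi s := (M1.epi_iff_stalk s).2 fun x y => ?_
    · exact isIso_of_mono_of_epi s
    · obtain ⟨U, hxU, hU⟩ := Twist.exists_of_mem_genLocus (M := M) (s := s) (x := x) (ht ▸ Set.mem_univ x)
      exact (CurveCoh17.bijective_stalkMap_of_app s U ((Twist.isIso_restrict_map_iff s U).1 hU) hxU).2 y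

/-- Effective classes are positive. -/
theorem T_pos [IsIntegral A.left] {h : ℕ} (hh : topologicalKrullDim A.left = ((h + 1 : ℕ) : WithBot ℕ∞))
    {L : A.left.Modules} (hL : CohB1.IsAmple L) {M : A.left.Modules} (hM : PicF.IsInvertible M)
    (s : Coh.structureModule A.left ⟶ M) (hs : s ≠ 0) (hs' : ¬ IsIso s) :
    0 < T h (PicGrp.cls L hL.1) (PicGrp.cls M hM) := by
  letI : A.left.Over (Spec (CommRingCat.of k)) := ⟨A.hom⟩
  haveI : IsProper (A.left ↘ Spec (CommRingCat.of k)) := inferInstanceAs (IsProper A.hom)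
  haveI : IsNoetherian A.left := CohFound.isNoetherian_of_isProper A.hom
  obtain ⟨I, hI, hE, hne, hc⟩ := exists_divisor hM s hs hs'
  set Q := ClSub.quotMod I
  have hQ : Coh.IsCoh Q := CurveCoh17.isCoh_quotMod I
  have hd : topologicalKrullDim (CohB1.support Q) = (h : WithBot ℕ∞) := by
    rw [NumPoly18.support_quotMod]; exact dim_support_eq hE hne hh
  obtain ⟨P, hP⟩ := Snapper.exists_isHilbPoly k hL.1 hQ
  set c₀ := PicGrp.cls L hL.1
  have hpow : ∀ (E : A.left.Modules) (hE : PicF.IsInvertible E) (n : ℕ),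
      (Curv2.euler k A.left (CohB1.tensorMod E (CohB1.tensorPow L n)) : ℚ) = chi (PicGrp.cls E hE * c₀ ^ n) := by
    intro E hE n
    rw [← chi_cls (M2.isInvertible_tensor hE (M2.isInvertible_tensorPow hL.1 n))]
    refine congrArg chi (Subtype.ext ?_)
    rw [PicGrp.mul_val, PicGrp.cls_pow_val, PicGrp.cls_val, PicGrp.cls_val, PicGrp.mulCl_cl]
  obtain ⟨q₁, hq₁⟩ := exists_linePoly c₀ (1 : PicLoc.PicSet A.left)
  obtain ⟨q₂, hq₂⟩ := exists_linePoly c₀ (PicGrp.cls M hM)⁻¹
  have key : P = q₁ - q₂ := by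
    refine RR22.poly_ext 0 fun n _ => ?_
    have hadd := Snapper.euler_tensor_add (k := k) (M2.shortExact_idealMod I) (CurveCoh17.isCoh_idealMod I)
      (M1.isCoh_structureModule A.left) hQ (M2.isInvertible_tensorPow hL.1 n)
    have hadd' := congrArg (fun z : ℤ => (z : ℚ)) hadd
    simp only [Int.cast_add] at hadd'
    rw [Polynomial.eval_sub, hq₁, hq₂, ← hP n, ← hc, ← PicGrp.cls_structureModule_eq_one, ← hpow, ← hpow]
    exact eq_sub_of_add_eq' hadd'.symm
  have hpos := Snapper.coeff_isHilbPoly_pos hL hQ hd hP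
  rw [key, Polynomial.coeff_sub, ← T_eq h hq₁, ← T_eq h hq₂, T_inv hh] at hpos
  have h0 := T_pow hh c₀ (1 : PicLoc.PicSet A.left) 0
  rw [pow_zero, Nat.cast_zero, zero_mul] at h0
  linarith

end Groth.Agent.RosTrace22

end
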