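import Groth.Agent.Lib.RosTrace22.End0
import Groth.Agent.Lib.Ample18.Sections

/-!
# Sums of squares of symmetric endomorphisms are positive
-/

universe u

open CategoryTheory Limits MonoidalCategory CartesianMonoidalCategory AlgebraicGeometry TopologicalSpace
open scoped MonObj GrpObj TensorProduct

set_option linter.style.haveILetI false
set_option linter.unusedSectionVars false
set_option maxHeartbeats 1000000
set_option synthInstance.maxHeartbeats 400000
set_option backward.isDefEq.respectTransparency false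

noncomputable section

namespace Groth.Agent.RosTrace22

open Groth.Agent.AlgEquiv22 Groth.Agent.MumVan22 Groth.Agent.Index22

noncomputable local instance instLawRosSS (Y : Scheme.{u}) : PicGrp.Law Y := M2.law Y

variable {k : Type u} [Field k] {A : Over (Spec (CommRingCat.of k))}

/-- A class with a nonzero section. -/
def Eff (d : PicLoc.PicSet A.left) : Prop :=
  ∃ (M : A.left.Modules) (hM : PicF.IsInvertible M) (s : Coh.structureModule A.left ⟶ M),
    PicGrp.cls M hM = d ∧ (CohB1.genLocus M s : Set A.left).Nonempty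

/-- A class with a nonzero section which is not an isomorphism. -/
def EffS (d : PicLoc.PicSet A.left) : Prop :=
  ∃ (M : A.left.Modules) (hM : PicF.IsInvertible M) (s : Coh.structureModule A.left ⟶ M),
    PicGrp.cls M hM = d ∧ (CohB1.genLocus M s : Set A.left).Nonempty ∧ (CohB1.genLocus M s : Set A.left) ≠ Set.univ

theorem EffS.eff {d : PicLoc.PicSet A.left} (h : EffS d) : Eff d := by
  obtain ⟨M, hM, s, h1, h2, -⟩ := h
  exact ⟨M, hM, s, h1, h2⟩

theorem genLocus_id_eq_univ (X : Scheme.{u}) :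
    (CohB1.genLocus (Coh.structureModule X) (𝟙 (Coh.structureModule X)) : Set X) = Set.univ :=
  Set.eq_univ_of_forall fun x => (Amp.mem_genLocus_iff (PicLoc.isInvertible_structureModule X) _).2
    (Amp.gen_one (U := ⊤) x trivial)

theorem cls_tensor' {X : Scheme.{u}} {L N : X.Modules} (hL : PicF.IsInvertible L) (hN : PicF.IsInvertible N) :
    PicGrp.cls (CohB1.tensorMod L N) (M2.isInvertible_tensor hL hN) = PicGrp.cls L hL * PicGrp.cls N hN :=
  (cls_tensor hL hN).symm

theorem eff_one [Nonempty A.left] : Eff (1 : PicLoc.PicSet A.left) :=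
  ⟨_, PicLoc.isInvertible_structureModule A.left, 𝟙 _, PicGrp.cls_structureModule_eq_one,
    by rw [genLocus_id_eq_univ]; exact Set.univ_nonempty⟩

theorem Eff.mul [IsIntegral A.left] {d e : PicLoc.PicSet A.left} (hd : Eff d) (he : Eff e) : Eff (d * e) := by
  obtain ⟨M, hM, s, rfl, hs⟩ := hd
  obtain ⟨N, hN, t, rfl, ht⟩ := he
  refine ⟨_, M2.isInvertible_tensor hM hN, SecTwist.tmulHom s t, cls_tensor' hM hN, ?_⟩
  rw [Amp.genLocus_tmulHom hM hN]
  exact nonempty_preirreducible_inter (CohB1.genLocus M s).isOpen (CohB1.genLocus N t).isOpen hs ht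

theorem EffS.mul [IsIntegral A.left] {d e : PicLoc.PicSet A.left} (hd : EffS d) (he : Eff e) : EffS (d * e) := by
  obtain ⟨M, hM, s, rfl, hs, hs'⟩ := hd
  obtain ⟨N, hN, t, rfl, ht⟩ := he
  refine ⟨_, M2.isInvertible_tensor hM hN, SecTwist.tmulHom s t, cls_tensor' hM hN, ?_, ?_⟩
  · rw [Amp.genLocus_tmulHom hM hN]
    exact nonempty_preirreducible_inter (CohB1.genLocus M s).isOpen (CohB1.genLocus N t).isOpen hs ht
  · rw [Amp.genLocus_tmulHom hM hN]
    exact fun h => hs' (Set.eq_univ_of_forall fun x => ((h.ge (Set.mem_univ x) : x ∈ _ ⊓ _)).1)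

theorem Eff.pow [IsIntegral A.left] {d : PicLoc.PicSet A.left} (hd : Eff d) : ∀ j : ℕ, Eff (d ^ j)
  | 0 => by rw [pow_zero]; exact eff_one
  | j + 1 => by rw [pow_succ]; exact (hd.pow j).mul hd

theorem EffS.pow [IsIntegral A.left] {d : PicLoc.PicSet A.left} (hd : EffS d) {j : ℕ} (hj : 0 < j) : EffS (d ^ j) := by
  obtain ⟨j, rfl⟩ : ∃ i, j = i + 1 := ⟨j - 1, by omega⟩
  rw [pow_succ']
  exact hd.mul (hd.eff.pow j)

variable [GrpObj A] [IsProper A.hom] [GeometricallyIntegral A.hom] [IsAlgClosed k]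

/-- `φ_d = m φ_c ∘ g`. -/
def Rel (c d : PicLoc.PicSet A.left) (g : A ⟶ A) (m : ℕ) : Prop :=
  ∀ x : 𝟙_ (Over (Spec (CommRingCat.of k))) ⟶ A,
    pb (𝟙 A * (toUnit A ≫ x)) d = d * bil c (𝟙 A) (toUnit A ≫ x ≫ g) ^ m

theorem Rel.pow {c d : PicLoc.PicSet A.left} {g : A ⟶ A} {m : ℕ} (h : Rel c d g m) (j : ℕ) :
    Rel c (d ^ j) g (m * j) := fun x => by rw [map_pow, h x, mul_pow, ← pow_mul]

theorem Rel.mul {c d e : PicLoc.PicSet A.left} {g g' : A ⟶ A} {m : ℕ} (h : Rel c d g m) (h' : Rel c e g' m) :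
    Rel c (d * e) (g * g') m := fun x => by
  rw [map_mul, h x, h' x, MonObj.comp_mul, MonObj.comp_mul, bil_mul_right, mul_pow, mul_mul_mul_comm]

theorem Rel.one (c : PicLoc.PicSet A.left) (m : ℕ) : Rel c 1 1 m := fun x => by
  rw [map_one, MonObj.comp_one, MonObj.comp_one, bil_one_right, one_pow, _root_.mul_one]

theorem Rel.of_pow {c d : PicLoc.PicSet A.left} {g : A ⟶ A} {m j : ℕ} (h : Rel c d (g ^ j) m) : Rel c d g (j * m) :=
  fun x => by
    rw [h x, MonObj.comp_pow, MonObj.comp_pow, bil_comm, bil_pow_left, bil_comm, ← pow_mul]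

variable [IsCommMonObj A]

/-- The square of a symmetric endomorphism is positive. -/
theorem exists_sq {L : A.left.Modules} (hL : CohB1.IsAmple L) (w : EndAV.End A) (hw : Sym (PicGrp.cls L hL.1) w)
    (hw0 : w ≠ 0) : ∃ (m : ℕ) (d : PicLoc.PicSet A.left), 0 < m ∧ EffS d ∧
      Rel (PicGrp.cls L hL.1) d (w * w).toHom m := by
  haveI : IsIntegral A.left := GeometricallyIntegral.isIntegral_of_subsingleton A.hom
  set c := PicGrp.cls L hL.1
  obtain ⟨m, M, s, hm, hM, hs, hs', hpos⟩ := Groth.Agent.S15662.result k A L hL w w 1 le_rfl (fun x => by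
    have e := (adjoint_eq_iff c w.toHom w.toHom x).2 (by
      rw [← Category.assoc]
      exact (hw _ _).trans (by rw [Category.id_comp]))
    rw [cls_tensorPow hL.1, pb_cls, pb_cls, pb_cls, pb_cls, cls_tensor, cls_tensor] at e
    exact (PicGrp.cls_eq_cls_iff _ _).1 e) hw0
  refine ⟨m, PicGrp.cls M hM, hm, ⟨M, hM, s, rfl, ?_, fun h => hs' ?_⟩, fun x => translate_of_mul c _ _ m x ?_⟩
  · have := CubeField.genLocus_nonempty_of_ne_zero hM (t := Amp.gval s) fun h0 => hs (by
      rw [← Amp.secHom_gval s, ← Amp.secHom_gval (0 : Coh.structureModule A.left ⟶ M), h0]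
      exact congrArg M1.secHom (by simp [Amp.gval]))
    rwa [show M1.secHom (Amp.gval s) = s from Amp.secHom_gval s] at this
  · haveI : Mono s := by
      rw [← Amp.secHom_gval s]
      exact (M1.mono_iff_stalk _).2 (CurveCoh17.injective_stalk_secHom
        ((M2.isInvertible_iff_isFinLocFreeOfRank_one _).1 hM) fun h0 => hs (by
          rw [← Amp.secHom_gval s, ← Amp.secHom_gval (0 : Coh.structureModule A.left ⟶ M), h0]
          exact congrArg M1.secHom (by simp [Amp.gval])))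
    haveI : Epi s := (M1.epi_iff_stalk s).2 fun z y => by
      obtain ⟨U, hzU, hU⟩ := Twist.exists_of_mem_genLocus (M := M) (s := s) (x := z) (h.ge (Set.mem_univ z))
      exact (CurveCoh17.bijective_stalkMap_of_app s U ((Twist.isIso_restrict_map_iff s U).1 hU) hzU).2 y
    exact isIso_of_mono_of_epi s
  · rw [cls_tensorPow hL.1 m, pb_cls, pb_cls]
    exact cls_eq_of_iso _ _ _ _ (hpos x)

/-- Sums of squares are positive. -/
theorem exists_sum {L : A.left.Modules} (hL : CohB1.IsAmple L) {n : ℕ} (w : Fin n → EndAV.End A)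
    (hw : ∀ i, Sym (PicGrp.cls L hL.1) (w i)) : ∃ (m : ℕ) (d : PicLoc.PicSet A.left), 0 < m ∧ Eff d ∧
      Rel (PicGrp.cls L hL.1) d (∑ i, w i * w i).toHom m ∧ ((∃ i, w i ≠ 0) → EffS d) := by
  haveI : IsIntegral A.left := GeometricallyIntegral.isIntegral_of_subsingleton A.hom
  set c := PicGrp.cls L hL.1
  induction n with
  | zero =>
    refine ⟨1, 1, one_pos, eff_one, ?_, fun ⟨i, _⟩ => i.elim0⟩
    rw [Fin.sum_univ_zero, EndAV.End.toHom_zero]
    exact Rel.one c 1
  | succ n ih =>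
    obtain ⟨m, d, hm, hd, hrel, hds⟩ := ih (fun i => w i.succ) fun i => hw _
    rw [Fin.sum_univ_succ, EndAV.End.toHom_add]
    by_cases h0 : w 0 = 0
    · refine ⟨m, d, hm, hd, ?_, fun ⟨i, hi⟩ => hds ?_⟩
      · rw [h0, MulZeroClass.mul_zero, EndAV.End.toHom_zero, _root_.one_mul]
        exact hrel
      · obtain rfl | ⟨j, rfl⟩ := Fin.eq_zero_or_eq_succ i
        · exact absurd h0 hi
        · exact ⟨j, hi⟩
    · obtain ⟨m₀, d₀, hm₀, hd₀, hrel₀⟩ := exists_sq hL (w 0) (hw 0) h0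
      have hs := (hd₀.pow hm).mul (hd.pow m₀)
      refine ⟨m * m₀, d₀ ^ m * d ^ m₀, Nat.mul_pos hm hm₀, hs.eff, ?_, fun _ => hs⟩
      exact (Nat.mul_comm m₀ m ▸ hrel₀.pow m).mul (hrel.pow m₀)

/-- A sum of squares in `ℚ[α]` is positive. -/
theorem exists_positive {L : A.left.Modules} (hL : CohB1.IsAmple L) {α : EndAV.End A}
    (hα : Sym (PicGrp.cls L hL.1) α) (hα0 : α ≠ 0) {n : ℕ} {y : Fin n → EndAV.End0 A}
    (hy : ∀ i, y i ∈ EndAV.QAdj α) (hαy : EndAV.toEnd0 α = ∑ i, y i ^ 2) :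
    ∃ (m : ℕ) (M : A.left.Modules) (s : Coh.structureModule A.left ⟶ M), 1 ≤ m ∧ PicF.IsInvertible M ∧ s ≠ 0 ∧ ¬ IsIso s ∧
      ∀ x : (𝟙_ (Over (Spec (CommRingCat.of k))) ⟶ A), Nonempty (CohB1.tensorMod ((Scheme.Modules.pullback ((𝟙 A * (toUnit A ≫ x))).left).obj (M)) (CohB1.tensorPow L m) ≅ CohB1.tensorMod (M) ((Scheme.Modules.pullback ((𝟙 A * (toUnit A ≫ x ≫ EndAV.End.toHom α))).left).obj (CohB1.tensorPow L m))) := by
  set c := PicGrp.cls L hL.1
  choose q p hq hp hyp using fun i => exists_rep c hα (hy i)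
  let D : ℕ := ∏ i, (q i).den
  have hD : D ≠ 0 := Finset.prod_ne_zero_iff.2 fun i _ => (q i).den_nz
  have hint : ∀ i, ∃ e : ℤ, (D : ℚ) * q i = e := fun i => by
    obtain ⟨t, ht⟩ : (q i).den ∣ D := Finset.dvd_prod_of_mem _ (Finset.mem_univ i)
    refine ⟨(q i).num * t, ?_⟩
    rw [ht]
    push_cast
    linear_combination (t : ℚ) * (q i).den_mul_eq_num
  choose e he using hint
  let w : Fin n → EndAV.End A := fun i => (e i : EndAV.End A) * p i
  have hw : ∀ i, Sym c (w i) := fun i => (Sym.intCast (e i)).mul (hp i) (Int.cast_commute (e i) (p i)).eq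
  have hsum : ((D * D : ℕ) : EndAV.End A) * α = ∑ i, w i * w i := by
    refine AVDegree22.toEnd0_injective (A := A) ?_
    rw [map_mul, map_natCast, hαy, Finset.mul_sum, map_sum]
    refine Finset.sum_congr rfl fun i _ => ?_
    simp only [w, map_mul, map_intCast]
    rw [hyp, pow_two, show ((e i : ℤ) : EndAV.End0 A) * EndAV.toEnd0 (p i) = ((e i : ℤ) : ℚ) • EndAV.toEnd0 (p i) from (zsmul_eq_mul (EndAV.toEnd0 (p i)) (e i)).symm.trans (Int.cast_smul_eq_zsmul ℚ (e i) (EndAV.toEnd0 (p i))).symm, ← he, smul_mul_smul_comm, smul_mul_smul_comm,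
      show ((D * D : ℕ) : EndAV.End0 A) * ((q i * q i) • (EndAV.toEnd0 (p i) * EndAV.toEnd0 (p i))) =
        ((D * D : ℕ) : ℚ) • ((q i * q i) • (EndAV.toEnd0 (p i) * EndAV.toEnd0 (p i))) from (nsmul_eq_mul (D * D) _).symm.trans (Nat.cast_smul_eq_nsmul ℚ (D * D) _).symm, smul_smul]
    congr 1
    push_cast
    ring
  obtain ⟨m, d, hm, -, hrel, hds⟩ := exists_sum hL w hw
  have hne : ∃ i, w i ≠ 0 := by
    by_contra hall
    push Not at hall
    have h0 := congrArg (EndAV.toEnd0 (A := A)) hsum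
    rw [Finset.sum_eq_zero (fun i _ => by rw [hall i, MulZeroClass.mul_zero]), map_zero, map_mul, map_natCast] at h0
    refine hα0 (AVDegree22.toEnd0_injective (A := A) ?_)
    have h1 : ((D * D : ℕ) : ℚ) • EndAV.toEnd0 α = 0 :=
      ((Nat.cast_smul_eq_nsmul ℚ (D * D) _).trans (nsmul_eq_mul (D * D) _)).trans h0
    rw [map_zero]
    exact (smul_eq_zero.1 h1).resolve_left (Nat.cast_ne_zero.2 (Nat.mul_ne_zero hD hD))
  obtain ⟨M, hM, s, rfl, hs, hs'⟩ := hds hne
  rw [← hsum, EndAV.End.toHom_mul, EndAV.End.toHom_natCast, MonObj.comp_pow, Category.comp_id] at hrel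
  have hrel' := hrel.of_pow
  refine ⟨D * D * m, M, s, Nat.mul_pos (Nat.pos_of_ne_zero (Nat.mul_ne_zero hD hD)) hm, hM, fun h0 => ?_, fun hi => hs' ?_, fun x => ?_⟩
  · obtain ⟨z, hz⟩ := hs
    have hg := (Amp.mem_genLocus_iff hM s).1 hz
    rw [h0, show Amp.gval (0 : Coh.structureModule A.left ⟶ M) = 0 from rfl,
      show Amp.gm M z (U := ⊤) trivial 0 = 0 from map_zero _] at hg
    exact Amp.not_gen_zero hM _ hg
  · haveI := hi
    have h := Amp.genLocus_comp_iso (asIso s) (𝟙 _)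
    rw [asIso_hom, Category.id_comp] at h
    rw [h, genLocus_id_eq_univ]
  · have h1 : pb (𝟙 A * (toUnit A ≫ x)) (PicGrp.cls M hM) * c ^ (D * D * m) =
        PicGrp.cls M hM * pb (𝟙 A * (toUnit A ≫ x ≫ α.toHom)) (c ^ (D * D * m)) := by
      rw [hrel' x, map_pow, pb_translate c (x ≫ α.toHom), mul_pow, _root_.mul_assoc, mul_comm _ (c ^ _)]
    rw [cls_tensorPow hL.1, pb_cls, pb_cls, cls_tensor, cls_tensor] at h1
    exact (PicGrp.cls_eq_cls_iff _ _).1 h1

theorem dim_ne_zero {α : EndAV.End A} (hα : α ≠ 0) : topologicalKrullDim A.left ≠ ((0 : ℕ) : WithBot ℕ∞) := by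
  intro h0
  haveI : IsIntegral A.left := GeometricallyIntegral.isIntegral_of_subsingleton A.hom
  refine hα (EndAV.End.ext (AbRigid.eq_one_of_points α.toHom fun p => ?_))
  refine CubeField.rpt_injective ?_
  have hη : IsClosed ({genericPoint A.left} : Set A.left) := by
    refine (VarDim.sdim_eq_zero_iff_isClosed A.hom _).1 ?_
    have h1 := VarDim.dim_eq_sdim_genericPoint A.hom
    rw [h0] at h1
    exact_mod_cast h1.symm
  have hall : ∀ z : A.left, z = genericPoint A.left := fun z =>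
    Set.mem_singleton_iff.1 ((genericPoint_specializes z).mem_closed hη rfl)
  exact (hall _).trans (hall _).symm

end Groth.Agent.RosTrace22

end
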