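import Groth.Agent.Lib.RosTrace22.Chi

/-!
# The trace of an endomorphism through the Euler characteristic

`T h c₀ e` is the coefficient of `n ^ h` in `χ(e + n c₀)`; on a variety of dimension `h + 1` it is additive in `e`,
vanishes on translation invariant classes, and computes the trace of an endomorphism.
-/

universe u

open CategoryTheory Limits MonoidalCategory CartesianMonoidalCategory AlgebraicGeometry
open scoped MonObj GrpObj

set_option linter.style.haveILetI false
set_option linter.unusedSectionVars false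
set_option maxHeartbeats 1000000
set_option backward.isDefEq.respectTransparency false

noncomputable section

namespace Groth.Agent.RosTrace22

open Groth.Agent.AlgEquiv22 Groth.Agent.MumVan22 Groth.Agent.Index22

noncomputable local instance instLawRosTr (Y : Scheme.{u}) : PicGrp.Law Y := M2.law Y

theorem eval_aeval {σ : Type*} (R : MvPolynomial σ ℚ) (b : σ → Polynomial ℚ) (t : ℚ) :
    (MvPolynomial.aeval b R : Polynomial ℚ).eval t = MvPolynomial.eval (fun i => (b i).eval t) R := by
  induction R using MvPolynomial.induction_on with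
  | C a => simp
  | add a a' ha hb => simp only [map_add, Polynomial.eval_add, ha, hb]
  | mul_X a i ha => simp only [map_mul, Polynomial.eval_mul, ha, MvPolynomial.aeval_X, MvPolynomial.eval_X]

theorem aeval_eq_sum (Q : MvPolynomial (Fin 3) ℚ) (v : Fin 3 → Polynomial ℚ) :
    (MvPolynomial.aeval v Q : Polynomial ℚ) =
      ∑ s ∈ Q.support, Polynomial.C (Q.coeff s) * (v 0 ^ s 0 * v 1 ^ s 1 * v 2 ^ s 2) := by
  rw [MvPolynomial.aeval_def, MvPolynomial.eval₂_eq']
  simp only [Fin.prod_univ_three, Polynomial.algebraMap_eq]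

theorem sum_eq_degree {g : ℕ} {Q : MvPolynomial (Fin 3) ℚ} (hQ : Q.IsHomogeneous g) {s : Fin 3 →₀ ℕ}
    (hs : s ∈ Q.support) : s 0 + s 1 + s 2 = g := by
  have := hQ (MvPolynomial.mem_support_iff.1 hs)
  rw [Finsupp.weight_apply, Finsupp.sum_fintype _ _ (by simp), Fin.sum_univ_three] at this
  simpa using this

/-- The exponents `(1, 0, h)` and `(0, 1, h)`. -/
def mono10 (h : ℕ) : Fin 3 →₀ ℕ := Finsupp.equivFunOnFinite.symm ![1, 0, h]

/-- The exponents `(0, 1, h)`. -/
def mono01 (h : ℕ) : Fin 3 →₀ ℕ := Finsupp.equivFunOnFinite.symm ![0, 1, h]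

theorem eq_mono10 {h : ℕ} {s : Fin 3 →₀ ℕ} (h0 : s 0 = 1) (h1 : s 1 = 0) (h2 : s 2 = h) : s = mono10 h := by
  ext i; fin_cases i <;> simp [mono10, h0, h1, h2]

theorem eq_mono01 {h : ℕ} {s : Fin 3 →₀ ℕ} (h0 : s 0 = 0) (h1 : s 1 = 1) (h2 : s 2 = h) : s = mono01 h := by
  ext i; fin_cases i <;> simp [mono01, h0, h1, h2]

theorem coeff_linear {h : ℕ} {Q : MvPolynomial (Fin 3) ℚ} (hQ : Q.IsHomogeneous (h + 1)) (a b : ℚ) :
    (MvPolynomial.aeval ![Polynomial.C a, Polynomial.C b, Polynomial.X] Q : Polynomial ℚ).coeff h =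
      a * Q.coeff (mono10 h) + b * Q.coeff (mono01 h) := by
  have hne : mono10 h ≠ mono01 h := fun e => by simpa [mono10, mono01] using congrArg (fun f => f 0) e
  rw [aeval_eq_sum, Polynomial.finsetSum_coeff]
  simp only [Matrix.cons_val_zero, Matrix.cons_val_one, Matrix.cons_val_two, Matrix.tail_cons, Matrix.head_cons]
  refine (Finset.sum_eq_add (mono10 h) (mono01 h) hne ?_ ?_ ?_).trans ?_
  · intro s hs hse
    rw [← map_pow, ← map_pow, ← map_mul, ← _root_.mul_assoc, ← map_mul, Polynomial.coeff_C_mul, Polynomial.coeff_X_pow,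
      if_neg, mul_zero]
    intro e
    have hsum := sum_eq_degree hQ hs
    rcases Nat.lt_or_ge (s 0) 1 with h0 | h0
    · exact hse.2 (eq_mono01 (by omega) (by omega) e.symm)
    · exact hse.1 (eq_mono10 (by omega) (by omega) e.symm)
  · intro hs
    rw [MvPolynomial.notMem_support_iff.1 hs, map_zero, zero_mul, Polynomial.coeff_zero]
  · intro hs
    rw [MvPolynomial.notMem_support_iff.1 hs, map_zero, zero_mul, Polynomial.coeff_zero]
  · simp [mono10, mono01]
    ring

theorem coeff_quadratic {h : ℕ} {Q : MvPolynomial (Fin 3) ℚ} (hQ : Q.IsHomogeneous (h + 1)) :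
    (MvPolynomial.aeval ![1, Polynomial.X, Polynomial.X ^ 2] Q : Polynomial ℚ).coeff (2 * h + 1) =
      Q.coeff (mono01 h) := by
  rw [aeval_eq_sum, Polynomial.finsetSum_coeff]
  simp only [Matrix.cons_val_zero, Matrix.cons_val_one, Matrix.cons_val_two, Matrix.tail_cons, Matrix.head_cons,
    _root_.one_pow, _root_.one_mul, ← pow_mul, ← pow_add, Polynomial.coeff_C_mul, Polynomial.coeff_X_pow, mul_ite,
    _root_.mul_one, mul_zero]
  rw [Finset.sum_eq_single (mono01 h)]
  · simp [mono01, Nat.add_comm]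
  · intro s hs hse
    rw [if_neg]
    intro e
    have hsum := sum_eq_degree hQ hs
    exact hse (eq_mono01 (by omega) (by omega) (by omega))
  · intro hs
    rw [MvPolynomial.notMem_support_iff.1 hs, ite_self]

variable {k : Type u} [Field k] [IsAlgClosed k] {A : Over (Spec (CommRingCat.of k))} [GrpObj A] [IsProper A.hom]
  [GeometricallyIntegral A.hom]

theorem exists_linePoly (c₀ e : PicLoc.PicSet A.left) :
    ∃ q : Polynomial ℚ, ∀ n : ℕ, q.eval (n : ℚ) = chi (e * c₀ ^ n) := by
  obtain ⟨g, hg⟩ := Index22.exists_dim (A := A)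
  obtain ⟨P, -, hP⟩ := exists_form hg ![e, c₀]
  refine ⟨MvPolynomial.aeval ![1, Polynomial.X] P, fun n => ?_⟩
  have h1 := hP ![1, n]
  simp only [Fin.prod_univ_two, Matrix.cons_val_zero, Matrix.cons_val_one, pow_one] at h1
  rw [h1, eval_aeval]
  refine congrArg (fun f => MvPolynomial.eval f P) (funext fun i => ?_)
  fin_cases i <;> simp

/-- The coefficient of `n ^ h` in the Euler characteristic of `e + n c₀`. -/
def T (h : ℕ) (c₀ e : PicLoc.PicSet A.left) : ℚ := (exists_linePoly c₀ e).choose.coeff h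

theorem T_eq (h : ℕ) {c₀ e : PicLoc.PicSet A.left} {q : Polynomial ℚ}
    (hq : ∀ n : ℕ, q.eval (n : ℚ) = chi (e * c₀ ^ n)) : T h c₀ e = q.coeff h := by
  rw [T, RR22.poly_ext 0 fun n _ => ((exists_linePoly c₀ e).choose_spec n).trans (hq n).symm]

theorem T_congr (h : ℕ) (c₀ : PicLoc.PicSet A.left) {e d : PicLoc.PicSet A.left} (hed : Inv (e * d⁻¹)) :
    T h c₀ e = T h c₀ d := by
  refine T_eq h fun n => ((exists_linePoly c₀ d).choose_spec n).trans (chi_congr ?_)
  rw [show d * c₀ ^ n * (e * c₀ ^ n)⁻¹ = (e * d⁻¹)⁻¹ by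
    rw [mul_inv_rev, mul_inv_rev, inv_inv, _root_.mul_assoc, mul_inv_cancel_left]]
  exact hed.inv

variable {h : ℕ} (hh : topologicalKrullDim A.left = ((h + 1 : ℕ) : WithBot ℕ∞))

include hh in
theorem T_pow_mul (c₀ e d : PicLoc.PicSet A.left) :
    ∃ x y : ℚ, ∀ a b : ℕ, T h c₀ (e ^ a * d ^ b) = a * x + b * y := by
  obtain ⟨Q, hQ, hQe⟩ := exists_form hh ![e, d, c₀]
  refine ⟨Q.coeff (mono10 h), Q.coeff (mono01 h), fun a b => ?_⟩
  rw [T_eq h (q := MvPolynomial.aeval ![Polynomial.C (a : ℚ), Polynomial.C (b : ℚ), Polynomial.X] Q) fun n => ?_,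
    coeff_linear hQ]
  have h1 := hQe ![a, b, n]
  simp only [Fin.prod_univ_three, Matrix.cons_val_zero, Matrix.cons_val_one, Matrix.cons_val_two, Matrix.tail_cons,
    Matrix.head_cons] at h1
  rw [h1, eval_aeval]
  refine congrArg (fun f => MvPolynomial.eval f Q) (funext fun i => ?_)
  fin_cases i <;> simp

include hh in
theorem T_mul (c₀ e d : PicLoc.PicSet A.left) : T h c₀ (e * d) = T h c₀ e + T h c₀ d := by
  obtain ⟨x, y, hxy⟩ := T_pow_mul hh c₀ e d
  have h11 := hxy 1 1
  have h10 := hxy 1 0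
  have h01 := hxy 0 1
  simp only [pow_one, pow_zero, _root_.mul_one, _root_.one_mul, Nat.cast_one, Nat.cast_zero, zero_mul, add_zero,
    zero_add] at h11 h10 h01
  rw [h11, h10, h01]

include hh in
theorem T_pow (c₀ e : PicLoc.PicSet A.left) (m : ℕ) : T h c₀ (e ^ m) = m * T h c₀ e := by
  induction m with
  | zero =>
    have := T_mul hh c₀ (1 : PicLoc.PicSet A.left) 1
    rw [_root_.mul_one] at this
    rw [pow_zero, Nat.cast_zero, zero_mul]
    linarith
  | succ m ih => rw [pow_succ, T_mul hh, ih]; push_cast; ring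

include hh in
theorem T_inv (c₀ e : PicLoc.PicSet A.left) : T h c₀ e⁻¹ = - T h c₀ e := by
  have h1 := T_mul hh c₀ e e⁻¹
  have h0 := T_pow hh c₀ e 0
  rw [mul_inv_cancel] at h1
  rw [pow_zero, Nat.cast_zero, zero_mul] at h0
  linarith

variable [IsCommMonObj A]

include hh in
/-- The trace formula: the coefficient below the leading one of the degree polynomial of an endomorphism. -/
theorem coeff_mul_chi (c₀ : PicLoc.PicSet A.left) (α : EndAV.End A) (P : Polynomial ℚ)
    (hP : ∀ j : ℤ, (IsFinite (EndAV.End.toHom (α + (j : EndAV.End A))).left →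
          ∀ a : A.left, (Scheme.Hom.finrank (EndAV.End.toHom (α + (j : EndAV.End A))).left a : ℚ) = P.eval (j : ℚ)) ∧
        (¬ IsFinite (EndAV.End.toHom (α + (j : EndAV.End A))).left → P.eval (j : ℚ) = 0)) :
    P.coeff (2 * h + 1) * chi c₀ = T h c₀ (bil c₀ α.toHom (𝟙 A)) := by
  haveI : IsIntegral A.left := GeometricallyIntegral.isIntegral_of_subsingleton A.hom
  set D := bil c₀ α.toHom (𝟙 A)
  obtain ⟨Q, hQ, hQe⟩ := exists_form hh ![pb α.toHom c₀, D, c₀]
  have key : P * Polynomial.C (chi c₀) = MvPolynomial.aeval ![1, Polynomial.X, Polynomial.X ^ 2] Q := by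
    refine RR22.poly_ext 0 fun j _ => ?_
    have h1 := (AVDegree22.clauses_iff (α + ((j : ℤ) : EndAV.End A)) _).1 (hP j)
    rw [show (((j : ℤ)) : ℚ) = (j : ℚ) from Int.cast_natCast j] at h1
    have h2 : (α + ((j : ℤ) : EndAV.End A)).toHom = α.toHom * 𝟙 A ^ j := by
      rw [EndAV.End.toHom_add, EndAV.End.toHom_intCast, zpow_natCast]
    have h3 : bil c₀ α.toHom (𝟙 A ^ j) = D ^ j := by
      rw [bil_comm, ← zpow_natCast, bil_zpow_left, zpow_natCast, bil_comm]
    have h4 := hQe ![1, j, j * j]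
    simp only [Fin.prod_univ_three, Matrix.cons_val_zero, Matrix.cons_val_one, Matrix.cons_val_two, Matrix.tail_cons,
      Matrix.head_cons, pow_one] at h4
    rw [Polynomial.eval_mul, Polynomial.eval_C, ← h1, ← chi_pullback, h2, pb_mul, h3, eval_aeval,
      chi_congr (d := pb α.toHom c₀ * D ^ j * c₀ ^ (j * j)), h4]
    · refine congrArg (fun f => MvPolynomial.eval f Q) (funext fun i => ?_)
      fin_cases i <;> simp [sq]
    · refine (congrArg AlgEquiv22.Inv ?_).mpr (inv_pow_div c₀ j)
      rw [mul_right_comm _ (pb (𝟙 A ^ j) c₀), ← div_eq_mul_inv, mul_div_mul_left_eq_div, div_eq_mul_inv]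
  have hc := congrArg (Polynomial.coeff · (2 * h + 1)) key
  simp only [Polynomial.coeff_mul_C, coeff_quadratic hQ] at hc
  rw [hc]
  refine Eq.symm ((T_eq h (q := MvPolynomial.aeval ![Polynomial.C 0, Polynomial.C 1, Polynomial.X] Q) fun n => ?_).trans ?_)
  · have h1 := hQe ![0, 1, n]
    simp only [Fin.prod_univ_three, Matrix.cons_val_zero, Matrix.cons_val_one, Matrix.cons_val_two, Matrix.tail_cons,
      Matrix.head_cons, pow_one, pow_zero, _root_.one_mul] at h1
    rw [h1, eval_aeval]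
    refine congrArg (fun f => MvPolynomial.eval f Q) (funext fun i => ?_)
    fin_cases i <;> simp
  · rw [coeff_linear hQ, zero_mul, zero_add, _root_.one_mul]

end Groth.Agent.RosTrace22

end
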