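import Groth.Agent.Lib.RosTrace22.Rosati
import Groth.Agent.Lib.AVCSA22.End0
import Groth.Agent.Lib.AbVarAlg.PosInvolution
import Groth.Agent.S15656
import Groth.Agent.S15662

/-!
# The trace form on the endomorphisms of an abelian variety
-/

universe u

open CategoryTheory Limits MonoidalCategory CartesianMonoidalCategory AlgebraicGeometry
open scoped MonObj GrpObj TensorProduct

set_option linter.style.haveILetI false
set_option linter.unusedSectionVars false
set_option maxHeartbeats 1000000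
set_option synthInstance.maxHeartbeats 400000
set_option backward.isDefEq.respectTransparency false

noncomputable section

namespace Groth.Agent.RosTrace22

open Groth.Agent.AlgEquiv22 Groth.Agent.MumVan22 Groth.Agent.Index22

noncomputable local instance instLawRosTF (Y : Scheme.{u}) : PicGrp.Law Y := M2.law Y

variable {k : Type u} [Field k] [IsAlgClosed k] {A : Over (Spec (CommRingCat.of k))} [GrpObj A] [IsCommMonObj A]
  [IsProper A.hom] [GeometricallyIntegral A.hom]
  {h : ℕ} (hh : topologicalKrullDim A.left = ((h + 1 : ℕ) : WithBot ℕ∞))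

/-- The trace of an endomorphism, up to the factor `χ(c₀)`. -/
def tr (c : PicLoc.PicSet A.left) : EndAV.End A →+ ℚ :=
  AddMonoidHom.mk' (fun β => T h c (bil c β.toHom (𝟙 A))) fun α β => by
    show T h c (bil c (α + β).toHom (𝟙 A)) = _
    rw [EndAV.End.toHom_add, bil_mul_left, T_mul hh]

theorem tr_apply (c : PicLoc.PicSet A.left) (β : EndAV.End A) : tr hh c β = T h c (bil c β.toHom (𝟙 A)) := rfl

include hh in
theorem exists_tate_data :
    ∃ (l : ℕ) (_ : Fact l.Prime), (l : k) ≠ 0 ∧ ∀ β : EndAV.End A, ∃ (t : ℤ) (P : Polynomial ℚ),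
      (∀ j : ℤ, (IsFinite (EndAV.End.toHom (β + (j : EndAV.End A))).left →
          ∀ a : A.left, (Scheme.Hom.finrank (EndAV.End.toHom (β + (j : EndAV.End A))).left a : ℚ) = P.eval (j : ℚ)) ∧
        (¬ IsFinite (EndAV.End.toHom (β + (j : EndAV.End A))).left → P.eval (j : ℚ) = 0)) ∧
      P.coeff (2 * h + 1) = (t : ℚ) ∧
      (t : ℤ_[l]) = LinearMap.trace ℤ_[l] _ (EndAV.End.tateRep l (SGA7.pt (K := k) (AlgebraicClosure k)) β) := by
  haveI : IsIntegral A.left := GeometricallyIntegral.isIntegral_of_subsingleton A.hom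
  obtain ⟨l, hlp, hl⟩ := AVDegree22.exists_prime_ne_zero k
  haveI := Fact.mk hlp
  haveI := TateTors22.free_tateMod (A := A) (AlgebraicClosure k) l hl
  haveI := TateTors22.finite_tateMod (A := A) (AlgebraicClosure k) l hl
  refine ⟨l, ⟨hlp⟩, hl, fun β => ?_⟩
  obtain ⟨P, hPm, hPd, hPe, hPc⟩ := AVDegree22.exists_int_charpoly (K := AlgebraicClosure k) hl hh β
  refine ⟨-P.coeff (2 * h + 1), (P.map (Int.castRingHom ℚ)).comp (-Polynomial.X), fun j => ?_, ?_, ?_⟩
  · refine (AVDegree22.clauses_iff (β + (j : EndAV.End A)) _).2 ?_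
    rw [Polynomial.eval_comp, Polynomial.eval_neg, Polynomial.eval_X, ← Int.cast_neg, ← eq_intCast (Int.castRingHom ℚ) (-j),
      Polynomial.eval_map_apply, hPe, eq_intCast, Int.cast_neg, sub_neg_eq_add]
  · rw [show (-Polynomial.X : Polynomial ℚ) = Polynomial.C (-1) * Polynomial.X by simp,
      Polynomial.comp_C_mul_X_coeff, Polynomial.coeff_map, Odd.neg_one_pow ⟨h, rfl⟩]
    simp
  · have hrank := TateTors22.finrank_tateMod (A := A) (AlgebraicClosure k) l hl hh
    let b := Module.finBasisOfFinrankEq ℤ_[l] (AbDual.TateMod A l (SGA7.pt (K := k) (AlgebraicClosure k))) hrank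
    haveI : Nonempty (Fin (2 * (h + 1))) := ⟨⟨0, by omega⟩⟩
    rw [LinearMap.trace_eq_matrix_trace ℤ_[l] b, Matrix.trace_eq_neg_charpoly_coeff, LinearMap.charpoly_toMatrix,
      hPc, Polynomial.coeff_map, Fintype.card_fin, show 2 * (h + 1) - 1 = 2 * h + 1 by omega]
    simp

include hh in
theorem exists_poly (c : PicLoc.PicSet A.left) (β : EndAV.End A) :
    ∃ P : Polynomial ℚ, (∀ j : ℤ, (IsFinite (EndAV.End.toHom (β + (j : EndAV.End A))).left →
          ∀ a : A.left, (Scheme.Hom.finrank (EndAV.End.toHom (β + (j : EndAV.End A))).left a : ℚ) = P.eval (j : ℚ)) ∧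
        (¬ IsFinite (EndAV.End.toHom (β + (j : EndAV.End A))).left → P.eval (j : ℚ) = 0)) ∧
      tr hh c β = P.coeff (2 * h + 1) * chi c := by
  obtain ⟨l, _, -, hdata⟩ := exists_tate_data (A := A) hh
  obtain ⟨t, P, hP, -, -⟩ := hdata β
  exact ⟨P, hP, (coeff_mul_chi hh c β P hP).symm⟩

include hh in
/-- The trace is cyclic. -/
theorem tr_comm (c : PicLoc.PicSet A.left) (x y : EndAV.End A) : tr hh c (x * y) = tr hh c (y * x) := by
  obtain ⟨l, _, -, hdata⟩ := exists_tate_data (A := A) hh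
  obtain ⟨t, P, hP, hPt, ht⟩ := hdata (x * y)
  obtain ⟨t', P', hP', hPt', ht'⟩ := hdata (y * x)
  rw [map_mul, LinearMap.trace_mul_comm, ← map_mul, ← ht'] at ht
  rw [tr_apply, tr_apply, ← coeff_mul_chi hh c _ P hP, ← coeff_mul_chi hh c _ P' hP', hPt, hPt',
    Int.cast_injective ht]

/-- Symmetry for the involution of a class. -/
def Sym (c : PicLoc.PicSet A.left) (β : EndAV.End A) : Prop :=
  ∀ ⦃V : Over (Spec (CommRingCat.of k))⦄ (x y : V ⟶ A), bil c (x ≫ β.toHom) y = bil c x (y ≫ β.toHom)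

theorem adjoint_eq_iff (c : PicLoc.PicSet A.left) (a r : A ⟶ A) [IsMonHom a] (x : 𝟙_ (Over (Spec (CommRingCat.of k))) ⟶ A) :
    pb (𝟙 A * (toUnit A ≫ x ≫ r)) c * pb a (c ^ 1) = c * pb a (pb (𝟙 A * (toUnit A ≫ x)) (c ^ 1)) ↔
      bil c (toUnit A ≫ x ≫ r) (𝟙 A) = bil c (toUnit A ≫ x) a := by
  rw [pow_one, pb_translate, pb_translate, map_mul, pb_bil, Category.comp_id, comp_toUnit_assoc, _root_.mul_assoc,
    mul_left_cancel_iff, mul_comm (pb a c), mul_left_inj, bil_comm c (𝟙 A), bil_comm c a]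

theorem sym_of_iso {L : A.left.Modules} (hL : PicF.IsInvertible L) (α : EndAV.End A)
    (hsym : ∀ x : (𝟙_ (Over (Spec (CommRingCat.of k))) ⟶ A), Nonempty (CohB1.tensorMod ((Scheme.Modules.pullback ((𝟙 A * (toUnit A ≫ x ≫ EndAV.End.toHom α))).left).obj (L)) ((Scheme.Modules.pullback (EndAV.End.toHom α).left).obj (L)) ≅ CohB1.tensorMod (L) ((Scheme.Modules.pullback (EndAV.End.toHom α).left).obj ((Scheme.Modules.pullback ((𝟙 A * (toUnit A ≫ x))).left).obj (L))))) :
    Sym (PicGrp.cls L hL) α := fun V x y => by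
  refine (bil_adjoint (PicGrp.cls L hL) α.toHom α.toHom 1 (fun t => ?_) x y).trans (pow_one _)
  rw [pow_one, pb_cls, pb_cls, pb_cls, pb_cls]
  exact cls_eq_of_iso _ _ _ _ (hsym t)

variable {c : PicLoc.PicSet A.left}

theorem Sym.add {α β : EndAV.End A} (hα : Sym c α) (hβ : Sym c β) : Sym c (α + β) := fun V x y => by
  rw [EndAV.End.toHom_add, MonObj.comp_mul, MonObj.comp_mul, bil_mul_left, bil_mul_right, hα x y, hβ x y]

theorem Sym.intCast (n : ℤ) : Sym c (n : EndAV.End A) := fun V x y => by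
  rw [EndAV.End.toHom_intCast, GrpObj.comp_zpow, Category.comp_id, GrpObj.comp_zpow, Category.comp_id,
    bil_zpow_left, bil_comm c x (y ^ n), bil_zpow_left, bil_comm c y x]

theorem Sym.mul {α β : EndAV.End A} (hα : Sym c α) (hβ : Sym c β) (hc : α * β = β * α) : Sym c (α * β) :=
  fun V x y => by
    conv_rhs => rw [hc]
    rw [EndAV.End.toHom_mul, EndAV.End.toHom_mul, ← Category.assoc, hα, hβ, Category.assoc]

theorem Sym.aeval {α : EndAV.End A} (hα : Sym c α) (F : Polynomial ℤ) : Sym c (Polynomial.aeval α F) := by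
  induction F using Polynomial.induction_on with
  | C a => rw [Polynomial.aeval_C, eq_intCast]; exact Sym.intCast a
  | add p q hp hq => rw [map_add]; exact hp.add hq
  | monomial n a ih =>
    rw [pow_succ, ← _root_.mul_assoc, map_mul, Polynomial.aeval_X]
    refine ih.mul hα ?_
    have e := congrArg (Polynomial.aeval α) (mul_comm (Polynomial.C a * Polynomial.X ^ n) Polynomial.X)
    rw [map_mul _ (Polynomial.C a * Polynomial.X ^ n), map_mul _ Polynomial.X, Polynomial.aeval_X] at e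
    exact e

theorem Sym.bil_comp {β : EndAV.End A} (hβ : Sym c β) (f : A ⟶ A) :
    bil c (f ≫ β.toHom) (𝟙 A) = bil c f β.toHom := (hβ f (𝟙 A)).trans (by rw [Category.id_comp])

include hh in
/-- A product of a symmetric pair with its adjoint. -/
theorem tr_pos_of_adjoint {L : A.left.Modules} (hL : CohB1.IsAmple L) (β ρ : EndAV.End A) (hβ : β ≠ 0)
    (hadj : ∀ ⦃V : Over (Spec (CommRingCat.of k))⦄ (x y : V ⟶ A),
      bil (PicGrp.cls L hL.1) (x ≫ ρ.toHom) y = bil (PicGrp.cls L hL.1) x (y ≫ β.toHom)) :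
    0 < tr hh (PicGrp.cls L hL.1) (ρ * β) := by
  set c := PicGrp.cls L hL.1 with hc
  obtain ⟨m, M, s, hm, hM, hs, hs', hpos⟩ := Groth.Agent.S15662.result k A L hL β ρ 1 le_rfl (fun x => by
    have e := (adjoint_eq_iff c β.toHom ρ.toHom x).2 (by
      rw [← Category.assoc]
      exact (hadj _ _).trans (by rw [Category.id_comp]))
    rw [cls_tensorPow hL.1, pb_cls, pb_cls, pb_cls, pb_cls, cls_tensor, cls_tensor] at e
    exact (PicGrp.cls_eq_cls_iff _ _).1 e) hβ
  obtain ⟨P, hP, htr⟩ := exists_poly hh c (ρ * β)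
  rw [htr]
  refine mul_pos (trace_pos hh hL (ρ * β) (fun x => ?_) hm hM s hs hs' (fun x => ?_) P hP) (chi_ne_zero hh hL)
  · rw [← hc, EndAV.End.toHom_mul, ← Category.assoc, ← Category.assoc, hadj, Category.id_comp,
      bil_comm c ((toUnit A ≫ x) ≫ β.toHom) β.toHom, ← hadj, bil_comm]
  · rw [cls_tensorPow hL.1 m, pb_cls, pb_cls]
    exact cls_eq_of_iso _ _ _ _ (hpos x)

include hh in
/-- Pullbacks of effective classes have non-negative `T`. -/
theorem T_pb_nonneg {L : A.left.Modules} (hL : CohB1.IsAmple L) {M : A.left.Modules} (hM : PicF.IsInvertible M)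
    (s : Coh.structureModule A.left ⟶ M) (hs : s ≠ 0) (b : A ⟶ A) [IsMonHom b] :
    0 ≤ T h (PicGrp.cls L hL.1) (pb b (PicGrp.cls M hM)) := by
  haveI : IsIntegral A.left := GeometricallyIntegral.isIntegral_of_subsingleton A.hom
  haveI : JacobsonSpace A.left := LocallyOfFiniteType.jacobsonSpace A.hom
  have hne : (CohB1.genLocus M s : Set A.left).Nonempty := by
    have := CubeField.genLocus_nonempty_of_ne_zero hM (t := Amp.gval s) fun h0 => hs (by
      rw [← Amp.secHom_gval s, ← Amp.secHom_gval (0 : Coh.structureModule A.left ⟶ M), h0]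
      exact congrArg M1.secHom (by simp [Amp.gval]))
    rwa [show M1.secHom (Amp.gval s) = s from Amp.secHom_gval s] at this
  obtain ⟨p, hp, hpc⟩ := nonempty_inter_closedPoints hne (CohB1.genLocus M s).isOpen.isLocallyClosed
  obtain ⟨a, rfl⟩ := CubeField.exists_rpt (X := A) hpc
  set f : A ⟶ A := b * (toUnit A ≫ a) with hf
  let M' := (Scheme.Modules.pullback f.left).obj M
  have hM' : PicF.IsInvertible M' := PicLoc.isInvertible_pullback _ hM
  let e0 := (PicLoc.pullbackStructureIso f.left).symm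
  let σ : Coh.structureModule A.left ⟶ M' := e0.hom ≫ (Scheme.Modules.pullback f.left).map s
  have hmem : CubeField.rpt (1 : 𝟙_ (Over (Spec (CommRingCat.of k))) ⟶ A) ∈ CohB1.genLocus M' σ := by
    rw [show CohB1.genLocus M' σ = f.left ⁻¹ᵁ CohB1.genLocus M s from Amp.genLocus_pullback f.left hM s e0]
    show f.left (CubeField.rpt (1 : 𝟙_ (Over (Spec (CommRingCat.of k))) ⟶ A)) ∈ CohB1.genLocus M s
    rw [← CubeField.rpt_comp, hf, MonObj.comp_mul, MonObj.one_comp, _root_.one_mul, comp_toUnit_assoc]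
    simpa using hp
  have hσ : σ ≠ 0 := fun h0 => by
    have hg := (Amp.mem_genLocus_iff hM' σ).1 hmem
    rw [h0, show Amp.gval (0 : Coh.structureModule A.left ⟶ M') = 0 from rfl,
      show Amp.gm M' (CubeField.rpt (1 : 𝟙_ (Over (Spec (CommRingCat.of k))) ⟶ A)) (U := ⊤) trivial 0 = 0
        from map_zero _] at hg
    exact Amp.not_gen_zero hM' _ hg
  have hcls : T h (PicGrp.cls L hL.1) (PicGrp.cls M' hM') = T h (PicGrp.cls L hL.1) (pb b (PicGrp.cls M hM)) := by
    refine T_congr h _ ?_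
    rw [← pb_cls f hM, hf, show b * (toUnit A ≫ a) = b ≫ (𝟙 A * (toUnit A ≫ a)) by
      rw [MonObj.comp_mul, Category.comp_id, comp_toUnit_assoc], ← pb_pb, ← map_inv, ← map_mul]
    exact inv_pb b (inv_translate_div _ a)
  rw [← hcls]
  by_cases hi : IsIso σ
  · have h1 : PicGrp.cls M' hM' = PicGrp.cls L hL.1 ^ 0 := by
      rw [pow_zero, ← PicGrp.cls_structureModule_eq_one]
      exact (PicGrp.cls_eq_cls_iff _ _).2 ⟨(asIso σ).symm⟩
    rw [h1, T_pow hh, Nat.cast_zero, zero_mul]
  · exact (T_pos hh hL hM' σ hσ hi).le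

include hh in
/-- Conjugates of positive endomorphisms have non-negative trace. -/
theorem tr_conj_nonneg {L : A.left.Modules} (hL : CohB1.IsAmple L) {α : EndAV.End A}
    (hα : Sym (PicGrp.cls L hL.1) α) {m : ℕ} (hm : 1 ≤ m) {M : A.left.Modules} (hM : PicF.IsInvertible M)
    (s : Coh.structureModule A.left ⟶ M) (hs : s ≠ 0)
    (hpos : ∀ x : (𝟙_ (Over (Spec (CommRingCat.of k))) ⟶ A), Nonempty (CohB1.tensorMod ((Scheme.Modules.pullback ((𝟙 A * (toUnit A ≫ x))).left).obj (M)) (CohB1.tensorPow L m) ≅ CohB1.tensorMod (M) ((Scheme.Modules.pullback ((𝟙 A * (toUnit A ≫ x ≫ EndAV.End.toHom α))).left).obj (CohB1.tensorPow L m))))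
    (β : EndAV.End A) (hβ : Sym (PicGrp.cls L hL.1) β) :
    0 ≤ tr hh (PicGrp.cls L hL.1) (β * α * β) := by
  set c := PicGrp.cls L hL.1
  have hinv := inv_of_positive c (PicGrp.cls M hM) α.toHom m
    (fun x => by rw [← Category.assoc, hα, Category.id_comp])
    fun x => translate_of_mul c _ α.toHom m x (by
      rw [cls_tensorPow hL.1 m, pb_cls, pb_cls]; exact cls_eq_of_iso _ _ _ _ (hpos x))
  have h1 := inv_pb β.toHom hinv
  rw [map_mul, map_inv, map_pow, map_pow] at h1
  have h2 : bil c (β * α * β).toHom (𝟙 A) = pb β.toHom (bil c α.toHom (𝟙 A)) := by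
    rw [EndAV.End.toHom_mul, EndAV.End.toHom_mul, ← Category.assoc, hβ.bil_comp, pb_bil, Category.comp_id]
  rw [← h2] at h1
  have h3 := T_congr h c h1
  rw [T_pow hh, T_pow hh, ← tr_apply hh] at h3
  have h4 := T_pb_nonneg hh hL hM s hs β.toHom
  have hm' : (0 : ℚ) < m := by exact_mod_cast hm
  by_contra hneg
  have : (m : ℚ) * tr hh c (β * α * β) < 0 := mul_neg_of_pos_of_neg hm' (not_le.1 hneg)
  rw [h3] at this
  push_cast at this
  linarith

end Groth.Agent.RosTrace22

end
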